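import Mathlib
import Groth.Agent.Omega.Stalks
import Groth.Prelude.Def_FlatMod2

/-!
# Restriction of scalars along a flat sheaf of algebras preserves injective modules
-/

set_option autoImplicit false
universe u

open CategoryTheory CategoryTheory.Limits Opposite TopologicalSpace TensorProduct

namespace Groth.Agent.OrdSurfLib

section Algebraic

/-- An injective module over a flat algebra is injective over the base. -/
theorem injective_of_flat_algebra (R A E : Type u) [CommRing R] [Ring A] [Algebra R A] [Module.Flat R A]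
    [AddCommGroup E] [Module R E] [Module A E] [IsScalarTower R A E] [Module.Injective A E] :
    Module.Injective R E := by
  refine Module.Baer.injective fun J g => ?_
  haveI : SMulCommClass R A E := IsScalarTower.to_smulCommClass
  let ι : A ⊗[R] J →ₗ[A] A ⊗[R] R :=
    TensorProduct.AlgebraTensorModule.lTensor A A J.subtype
  have hι : Function.Injective ι :=
    Module.Flat.lTensor_preserves_injective_linearMap (M := A) J.subtype J.injective_subtype
  let g' : A ⊗[R] J →ₗ[A] E :=
    TensorProduct.AlgebraTensorModule.lift (LinearMap.toSpanSingleton A (J →ₗ[R] E) g)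
  obtain ⟨h, hh⟩ := Module.Injective.out ι hι g'
  refine ⟨(h.restrictScalars R).comp (TensorProduct.mk R A R 1), fun r hr => ?_⟩
  have := hh ((1 : A) ⊗ₜ ⟨r, hr⟩)
  refine this.trans ?_
  show ((1 : A) • g) ⟨r, hr⟩ = _
  rw [one_smul]

end Algebraic

section Space

variable {X : TopCat.{u}}

/-- the stalk of a sheaf of rings -/
abbrev RS (R : Sheaf (Opens.grothendieckTopology X) RingCat.{u}) (x : X) : Type u :=
  ↑(TopCat.Presheaf.stalk (C := RingCat.{u}) (X := X) R.obj x)

variable {A : Sheaf (Opens.grothendieckTopology X) RingCat.{u}} (E : X → Type u) [∀ x, AddCommGroup (E x)]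
  [∀ x, Module (RS A x) (E x)]

/-- families of elements of the `E x` over an open -/
@[simps] noncomputable def gdAb (E : X → Type u) [∀ x, AddCommGroup (E x)] : TopCat.Presheaf Ab.{u} X where
  obj U := AddCommGrpCat.of (∀ p : { p : X // p ∈ U.unop }, E p.1)
  map {U V} i := AddCommGrpCat.ofHom
    { toFun := fun g p => g ⟨p.1, leOfHom i.unop p.2⟩
      map_zero' := rfl
      map_add' := fun _ _ => rfl }

noncomputable instance gdModule (U : (Opens X)ᵒᵖ) : Module (A.obj.obj U) ((gdAb E).obj U) :=
  letI : ∀ p : { p : X // p ∈ U.unop }, Module (A.obj.obj U) (E p.1) := fun p =>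
    Module.compHom (E p.1) (TopCat.Presheaf.germ (C := RingCat.{u}) A.obj U.unop p.1 p.2).hom
  inferInstanceAs (Module (A.obj.obj U) (∀ p : { p : X // p ∈ U.unop }, E p.1))

theorem gdAb_isSheaf : TopCat.Presheaf.IsSheaf (gdAb E) := by
  rw [TopCat.Presheaf.isSheaf_iff_isSheafUniqueGluing]
  intro ι U sf hsf
  classical
  have hex : ∀ p : { p : X // p ∈ iSup U }, ∃ i, p.1 ∈ U i := fun p => Opens.mem_iSup.mp p.2
  refine ⟨fun p => sf (hex p).choose ⟨p.1, (hex p).choose_spec⟩, fun i => ?_, fun g hg => ?_⟩
  · funext p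
    have hp : p.1 ∈ iSup U := Opens.mem_iSup.mpr ⟨i, p.2⟩
    exact congr_fun (hsf (hex ⟨p.1, hp⟩).choose i) ⟨p.1, (hex ⟨p.1, hp⟩).choose_spec, p.2⟩
  · funext p
    exact congr_fun (hg (hex p).choose) ⟨p.1, (hex p).choose_spec⟩

variable (A) in
/-- the sheaf of families `U ↦ ∏_{x ∈ U} E x` -/
noncomputable def gd : SheafOfModules.{u} A :=
  ⟨PresheafOfModules.ofPresheaf (R := A.obj) (gdAb E) (fun {U V} i r g => by
      funext p
      exact congrArg (fun s : RS A p.1 => s • (show E p.1 from g ⟨p.1, leOfHom i.unop p.2⟩))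
        (TopCat.Presheaf.germ_res_apply (C := RingCat.{u}) A.obj i.unop p.1 p.2 r).symm),
    gdAb_isSheaf E⟩

variable {E}

/-- A family of stalk maps gives a morphism to `gd`. -/
noncomputable def toGd (M : SheafOfModules.{u} A)
    (h : ∀ x, ↑(TopCat.Presheaf.stalk (C := Ab.{u}) (X := X) M.val.presheaf x) →ₗ[RS A x] E x) : M ⟶ gd A E :=
  ⟨PresheafOfModules.homMk
    { app := fun U => AddCommGrpCat.ofHom (AddMonoidHom.mk'
        (fun m p => h p.1 ((TopCat.Presheaf.germ (C := Ab.{u}) M.val.presheaf U.unop p.1 p.2).hom m))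
        (fun a b => by funext p; exact (congrArg (h p.1) (map_add _ a b)).trans (map_add _ _ _)))
      naturality := fun {U V} i => by
        ext m
        funext p
        exact congrArg (h p.1) (TopCat.Presheaf.germ_res_apply (C := Ab.{u}) M.val.presheaf i.unop p.1 p.2 m) }
    (fun U r m => by
      funext p
      exact (congrArg (h p.1) (PresheafOfModules.germ_ringCat_smul M.val p.1 U.unop p.2 r m)).trans
        ((h p.1).map_smul _ _))⟩

theorem mono_toGd (M : SheafOfModules.{u} A)
    (h : ∀ x, ↑(TopCat.Presheaf.stalk (C := Ab.{u}) (X := X) M.val.presheaf x) →ₗ[RS A x] E x)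
    (hh : ∀ x, Function.Injective (h x)) : Mono (toGd M h) := by
  refine (SheafOfModules.forget A).mono_of_mono_map (PresheafOfModules.mono_of_injective fun U a b hab => ?_)
  let F : TopCat.Sheaf Ab.{u} X := ⟨M.val.presheaf, M.isSheaf⟩
  refine TopCat.Presheaf.section_ext F U.unop a b fun p hp => hh p ?_
  exact congr_fun hab ⟨p, hp⟩

end Space

section Scheme

open AlgebraicGeometry

variable {X : Scheme.{u}} {A : Sheaf (Opens.grothendieckTopology X) RingCat.{u}} (φ : X.ringCatSheaf ⟶ A)

/-- the map on stalks -/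
noncomputable def rho (x : X) : X.presheaf.stalk x →+* RS (X := X.carrier) A x :=
  ((isColimitOfPreserves (forget₂ CommRingCat.{u} RingCat.{u})
      (colimit.isColimit ((OpenNhds.inclusion x).op ⋙ X.presheaf))).desc
    { pt := TopCat.Presheaf.stalk (C := RingCat.{u}) (X := X.carrier) A.obj x
      ι :=
        { app := fun U => φ.hom.app (op U.unop.1) ≫
            TopCat.Presheaf.germ (C := RingCat.{u}) (X := X.carrier) A.obj U.unop.1 x U.unop.2
          naturality := fun U V i => by
            refine RingCat.hom_ext (RingHom.ext fun r => ?_)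
            refine Eq.trans ?_ (TopCat.Presheaf.germ_res_apply (C := RingCat.{u}) A.obj
              ((OpenNhds.inclusion x).map i.unop) x V.unop.2 (φ.hom.app (op U.unop.1) r))
            exact congrArg (TopCat.Presheaf.germ (C := RingCat.{u}) (X := X.carrier) A.obj V.unop.1 x V.unop.2).hom
              (ConcreteCategory.congr_hom (φ.hom.naturality ((OpenNhds.inclusion x).map i.unop).op) r) } }).hom

theorem rho_germ (x : X) (U : X.Opens) (hx : x ∈ U) (r : Γ(X, U)) :
    rho φ x (X.presheaf.germ U x hx r) =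
      (TopCat.Presheaf.germ (C := RingCat.{u}) (X := X.carrier) A.obj U x hx).hom (φ.hom.app (op U) r) := by
  exact ConcreteCategory.congr_hom ((isColimitOfPreserves (forget₂ CommRingCat.{u} RingCat.{u})
      (colimit.isColimit ((OpenNhds.inclusion x).op ⋙ X.presheaf))).fac _ (op (⟨U, hx⟩ : OpenNhds x))) r

theorem rho_central (hcen : ∀ (U : (Opens X)ᵒᵖ) (s : X.ringCatSheaf.obj.obj U) (a : A.obj.obj U),
      φ.hom.app U s * a = a * φ.hom.app U s) (x : X) (r : X.presheaf.stalk x) (a : RS (X := X.carrier) A x) :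
    rho φ x r * a = a * rho φ x r := by
  obtain ⟨U, hxU, s, rfl⟩ := X.presheaf.exists_germ_eq r
  obtain ⟨V, hxV, b, rfl⟩ := TopCat.Presheaf.exists_germ_eq (C := RingCat.{u}) A.obj a
  have hx : x ∈ U ⊓ V := ⟨hxU, hxV⟩
  rw [← X.presheaf.germ_res_apply (homOfLE (inf_le_left : U ⊓ V ≤ U)) x hx s,
    ← TopCat.Presheaf.germ_res_apply (C := RingCat.{u}) A.obj (homOfLE (inf_le_right : U ⊓ V ≤ V)) x hx b,
    rho_germ, ← map_mul, ← map_mul, hcen]

/-- the additive comparison between the two stalks of `A` -/
noncomputable def thetaHom (x : X) :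
    TopCat.Presheaf.stalk (C := Ab.{u}) (X := X.carrier) (SheafOfModules.unit A).val.presheaf x ⟶
      AddCommGrpCat.of (RS (X := X.carrier) A x) :=
  colimit.desc _
    { pt := _
      ι :=
        { app := fun U => AddCommGrpCat.ofHom
            (TopCat.Presheaf.germ (C := RingCat.{u}) (X := X.carrier) A.obj U.unop.1 x U.unop.2).hom.toAddMonoidHom
          naturality := fun U V i => by
            ext r
            exact TopCat.Presheaf.germ_res_apply (C := RingCat.{u}) A.obj ((OpenNhds.inclusion x).map i.unop) x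
              V.unop.2 r } }

theorem thetaHom_germ (x : X) (U : X.Opens) (hx : x ∈ U) (a : A.obj.obj (op U)) :
    (thetaHom (A := A) x).hom
        ((TopCat.Presheaf.germ (C := Ab.{u}) (X := X.carrier) (SheafOfModules.unit A).val.presheaf U x hx).hom a) =
      (TopCat.Presheaf.germ (C := RingCat.{u}) (X := X.carrier) A.obj U x hx).hom a :=
  ConcreteCategory.congr_hom (show TopCat.Presheaf.germ (C := Ab.{u}) (X := X.carrier) (SheafOfModules.unit A).val.presheaf U x hx ≫
      thetaHom (A := A) x = AddCommGrpCat.ofHom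
        (TopCat.Presheaf.germ (C := RingCat.{u}) (X := X.carrier) A.obj U x hx).hom.toAddMonoidHom
    from colimit.ι_desc _ (op (⟨U, hx⟩ : OpenNhds x))) a

theorem thetaHom_bijective (x : X) : Function.Bijective (thetaHom (A := A) x).hom := by
  refine ⟨(injective_iff_map_eq_zero _).2 fun s hs => ?_, fun t => ?_⟩
  · obtain ⟨U, hxU, a, rfl⟩ := TopCat.Presheaf.exists_germ_eq _ s
    obtain ⟨W, hW, i, j, h⟩ := TopCat.Presheaf.germ_eq (C := RingCat.{u}) A.obj x hxU hxU a (0 : A.obj.obj (op U))
      (((thetaHom_germ x U hxU a).symm.trans hs).trans (map_zero _).symm)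
    refine (TopCat.Presheaf.germ_res_apply (C := Ab.{u}) (SheafOfModules.unit A).val.presheaf i x hW a).symm.trans ?_
    refine (congrArg _ (h.trans (map_zero (A.obj.map j.op).hom))).trans ?_
    exact map_zero _
  · obtain ⟨U, hxU, a, rfl⟩ := TopCat.Presheaf.exists_germ_eq (C := RingCat.{u}) A.obj t
    exact ⟨_, thetaHom_germ x U hxU a⟩

theorem flat_rho (hcen : ∀ (U : (Opens X)ᵒᵖ) (s : X.ringCatSheaf.obj.obj U) (a : A.obj.obj U),
      φ.hom.app U s * a = a * φ.hom.app U s)
    (hA : FlatMod.IsFlat (X := X) ((SheafOfModules.restrictScalars φ).obj (SheafOfModules.unit A))) (x : X) :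
    @Module.Flat (X.presheaf.stalk x) (RS (X := X.carrier) A x) _ _
      ((rho φ x).toAlgebra' (rho_central φ hcen x)).toModule := by
  letI := (rho φ x).toAlgebra' (rho_central φ hcen x)
  let AA : X.Modules := (SheafOfModules.restrictScalars φ).obj (SheafOfModules.unit A)
  haveI : Module.Flat (X.presheaf.stalk x) (AA.presheaf.stalk x) := hA x
  let θ : ↑(AA.presheaf.stalk x) →ₗ[X.presheaf.stalk x] RS (X := X.carrier) A x :=
    { (thetaHom (A := A) x).hom with
      map_smul' := fun r s => by
        obtain ⟨U, hxU, a, rfl⟩ := TopCat.Presheaf.exists_germ_eq (C := Ab.{u}) AA.presheaf s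
        obtain ⟨V, hxV, c, rfl⟩ := X.presheaf.exists_germ_eq r
        have hx : x ∈ V ⊓ U := ⟨hxV, hxU⟩
        rw [← X.presheaf.germ_res_apply (homOfLE (inf_le_left : V ⊓ U ≤ V)) x hx c,
          ← TopCat.Presheaf.germ_res_apply (C := Ab.{u}) AA.presheaf (homOfLE (inf_le_right : V ⊓ U ≤ U)) x hx a]
        refine (congrArg (thetaHom (A := A) x).hom
          (PresheafOfModules.germ_smul (R := X.presheaf) (M := AA.val) x (V ⊓ U) hx _ _).symm).trans ?_
        refine (thetaHom_germ x (V ⊓ U) hx _).trans ?_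
        refine (map_mul (TopCat.Presheaf.germ (C := RingCat.{u}) (X := X.carrier) A.obj (V ⊓ U) x hx).hom _ _).trans ?_
        exact congrArg₂ (· * ·) (rho_germ φ x (V ⊓ U) hx _).symm (thetaHom_germ x (V ⊓ U) hx _).symm }
  exact Module.Flat.of_linearEquiv (LinearEquiv.ofBijective θ (thetaHom_bijective x)).symm

variable {φ}
variable {E : X → Type u} [∀ x, AddCommGroup (E x)] [∀ x, Module (RS (X := X.carrier) A x) (E x)]

/-- evaluation of a morphism into `gd` at a point -/
noncomputable def evalGd {P : X.Modules} (g : P ⟶ (SheafOfModules.restrictScalars φ).obj (gd (X := X.carrier) A E))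
    (U : X.Opens) (x : X) (hx : x ∈ U) : Γ(P, U) →+ E x :=
  AddMonoidHom.mk' (fun s => (show ∀ p : { p : X // p ∈ U }, E p.1 from g.app U s) ⟨x, hx⟩)
    (fun a b => congr_fun (map_add (g.app U).hom a b) ⟨x, hx⟩)

/-- the stalk map of a morphism into `gd` -/
noncomputable def stalkGd {P : X.Modules} (g : P ⟶ (SheafOfModules.restrictScalars φ).obj (gd (X := X.carrier) A E))
    (x : X) : P.presheaf.stalk x ⟶ AddCommGrpCat.of (E x) :=
  colimit.desc _
    { pt := AddCommGrpCat.of (E x)
      ι :=
        { app := fun U => AddCommGrpCat.ofHom (evalGd g U.unop.1 x U.unop.2)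
          naturality := fun {U V} i => by
            ext m
            exact congr_fun (NatTrans.naturality_apply g.mapPresheaf
              ((OpenNhds.inclusion x).map i.unop).op m) ⟨x, V.unop.2⟩ } }

theorem stalkGd_germ {P : X.Modules} (g : P ⟶ (SheafOfModules.restrictScalars φ).obj (gd (X := X.carrier) A E))
    (U : X.Opens) (x : X) (hx : x ∈ U) (m : Γ(P, U)) :
    (stalkGd g x).hom ((TopCat.Presheaf.germ (C := Ab.{u}) P.presheaf U x hx).hom m) = evalGd g U x hx m :=
  ConcreteCategory.congr_hom (show TopCat.Presheaf.germ (C := Ab.{u}) P.presheaf U x hx ≫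
      stalkGd g x = AddCommGrpCat.ofHom (evalGd g U x hx)
    from colimit.ι_desc _ (op (⟨U, hx⟩ : OpenNhds x))) m

theorem stalkGd_smul {P : X.Modules} (g : P ⟶ (SheafOfModules.restrictScalars φ).obj (gd (X := X.carrier) A E))
    (x : X) (r : X.presheaf.stalk x) (s : ↑(P.presheaf.stalk x)) :
    (stalkGd g x).hom (r • s) = rho φ x r • (stalkGd g x).hom s := by
  obtain ⟨U, hxU, a, rfl⟩ := TopCat.Presheaf.exists_germ_eq (C := Ab.{u}) P.presheaf s
  obtain ⟨V, hxV, c, rfl⟩ := X.presheaf.exists_germ_eq r
  have hx : x ∈ V ⊓ U := ⟨hxV, hxU⟩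
  rw [← X.presheaf.germ_res_apply (homOfLE (inf_le_left : V ⊓ U ≤ V)) x hx c,
    ← TopCat.Presheaf.germ_res_apply (C := Ab.{u}) P.presheaf (homOfLE (inf_le_right : V ⊓ U ≤ U)) x hx a]
  refine (congrArg (stalkGd g x).hom
    (PresheafOfModules.germ_smul (R := X.presheaf) (M := P.val) x (V ⊓ U) hx _ _).symm).trans ?_
  refine (stalkGd_germ g (V ⊓ U) x hx _).trans ?_
  refine (congr_fun (Scheme.Modules.Hom.app_smul g _ _) ⟨x, hx⟩).trans ?_
  exact congrArg₂ (· • ·) (rho_germ φ x (V ⊓ U) hx _).symm (stalkGd_germ g (V ⊓ U) x hx _).symm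

theorem injective_restrict_gd (hcen : ∀ (U : (Opens X)ᵒᵖ) (s : X.ringCatSheaf.obj.obj U) (a : A.obj.obj U),
      φ.hom.app U s * a = a * φ.hom.app U s)
    (hA : FlatMod.IsFlat (X := X) ((SheafOfModules.restrictScalars φ).obj (SheafOfModules.unit A)))
    (hE : ∀ x, Module.Injective (RS (X := X.carrier) A x) (E x)) :
    Injective (C := X.Modules) ((SheafOfModules.restrictScalars φ).obj (gd (X := X.carrier) A E)) := by
  constructor
  intro P Q g f hf
  have hh : ∀ x : X, ∃ h : ↑(Q.presheaf.stalk x) →+ E x,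
      (∀ (r : X.presheaf.stalk x) s, h (r • s) = rho φ x r • h s) ∧
      ∀ s, h (Groth.Agent.PullStalk.Exact.stalkLin f x s) = (stalkGd g x).hom s := by
    intro x
    letI := (rho φ x).toAlgebra' (rho_central φ hcen x)
    haveI : Module.Flat (X.presheaf.stalk x) (RS (X := X.carrier) A x) := flat_rho φ hcen hA x
    haveI := hE x
    letI : Module (X.presheaf.stalk x) (E x) := Module.compHom (E x) (rho φ x)
    haveI : IsScalarTower (X.presheaf.stalk x) (RS (X := X.carrier) A x) (E x) :=
      ⟨fun r a e => (mul_smul (rho φ x r) a e)⟩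
    haveI := injective_of_flat_algebra (X.presheaf.stalk x) (RS (X := X.carrier) A x) (E x)
    obtain ⟨h, hh⟩ := Module.Injective.out (Groth.Agent.PullStalk.Exact.stalkLin f x)
      (Groth.Agent.Omega.Stalks.stalkLin_injective_of_mono f x)
      { (stalkGd g x).hom with map_smul' := stalkGd_smul g x }
    exact ⟨h.toAddMonoidHom, fun r s => h.map_smul r s, hh⟩
  choose h hsmul hh using hh
  let q : Q ⟶ (SheafOfModules.restrictScalars φ).obj (gd (X := X.carrier) A E) :=
    ⟨PresheafOfModules.homMk
      { app := fun U => AddCommGrpCat.ofHom (AddMonoidHom.mk'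
          (fun m (p : { p : X // p ∈ U.unop }) => h p.1 ((TopCat.Presheaf.germ (C := Ab.{u}) Q.presheaf U.unop p.1 p.2).hom m))
          (fun a b => by funext p; exact (congrArg (h p.1) (map_add _ a b)).trans (map_add _ _ _)))
        naturality := fun {U V} i => by
          ext m
          funext p
          exact congrArg (h p.1) (TopCat.Presheaf.germ_res_apply (C := Ab.{u}) Q.presheaf i.unop p.1 p.2 m) }
      (fun U r m => by
        funext p
        refine (congrArg (h p.1) (PresheafOfModules.germ_smul (R := X.presheaf) (M := Q.val) p.1 U.unop p.2 r m)).trans ?_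
        refine (hsmul p.1 _ _).trans ?_
        exact congrArg (· • _) (rho_germ φ p.1 U.unop p.2 r))⟩
  refine ⟨q, ?_⟩
  ext U m
  funext p
  refine Eq.trans (congrArg (h p.1) ?_) ((hh p.1 _).trans (stalkGd_germ g U p.1 p.2 m))
  exact (Groth.Agent.PullStalk.Exact.stalkLin_germ f U p.1 p.2 m).symm

theorem injective_restrict (hcen : ∀ (U : (Opens X)ᵒᵖ) (s : X.ringCatSheaf.obj.obj U) (a : A.obj.obj U),
      φ.hom.app U s * a = a * φ.hom.app U s)
    (hA : FlatMod.IsFlat (X := X) ((SheafOfModules.restrictScalars φ).obj (SheafOfModules.unit A)))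
    (I : SheafOfModules.{u} A) [Injective I] :
    Injective (C := X.Modules) ((SheafOfModules.restrictScalars φ).obj I) := by
  let J : ∀ x : X, ModuleCat.{u} (RS (X := X.carrier) A x) := fun x =>
    Injective.under (ModuleCat.of (RS (X := X.carrier) A x)
      ↑(TopCat.Presheaf.stalk (C := Ab.{u}) (X := X.carrier) I.val.presheaf x))
  let j : ∀ x : X, ModuleCat.of (RS (X := X.carrier) A x)
      ↑(TopCat.Presheaf.stalk (C := Ab.{u}) (X := X.carrier) I.val.presheaf x) ⟶ J x := fun x => Injective.ι _
  let ι : I ⟶ gd (X := X.carrier) A (fun x => ↑(J x)) := toGd I (fun x => (j x).hom)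
  haveI : Mono ι := mono_toGd I _ (fun x => (ModuleCat.mono_iff_injective (j x)).1 (Injective.ι_mono _))
  let p := Injective.factorThru (𝟙 I) ι
  haveI : Injective (C := X.Modules) ((SheafOfModules.restrictScalars φ).obj (gd (X := X.carrier) A (fun x => ↑(J x)))) :=
    injective_restrict_gd hcen hA fun x =>
      haveI : Injective (ModuleCat.of (RS (X := X.carrier) A x) ↑(J x)) := Injective.injective_under _
      Module.injective_module_of_injective_object _ _
  exact Retract.injective (C := X.Modules) (Retract.map { i := ι, r := p, retract := Injective.comp_factorThru _ _ } (SheafOfModules.restrictScalars φ))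

end Scheme

end Groth.Agent.OrdSurfLib
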