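import Mathlib
import Groth.Agent.OrdSurfLib.InjRestrict
import Groth.Agent.RegLoc.PD
import Groth.Agent.S0563
import Groth.Agent.DomMod.Basic
import Groth.Agent.DimIneq.Basic
import Groth.Agent.CurveDVR.Stalk
import Groth.Agent.S1688
import Groth.Agent.CohDev.Coh
import Groth.Agent.VBLib.Basic
import Groth.Agent.Props.QProj
import Groth.Agent.FDesc.QuasiFlat
import Groth.Agent.PullStalk.Exact
import Groth.Prelude.Def_TorSh

/-!
# Locally free modules on regular surfaces
-/

set_option autoImplicit false
universe u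

open CategoryTheory CategoryTheory.Limits AlgebraicGeometry Opposite TopologicalSpace

namespace Groth.Agent.OrdSurfLib

open Groth.Agent.RegLoc.PD

theorem projective_ker_of_surjective {R : Type u} [CommRing R] [IsRegularLocalRing R] [IsDomain R]
    (hR : ringKrullDim R ≤ 2) {F N : Type u} [AddCommGroup F] [Module R F] [Module.Projective R F]
    [AddCommGroup N] [Module R N] [Module.Finite R N] [Module.IsTorsionFree R N]
    (f : F →ₗ[R] N) (hf : Function.Surjective f) : Module.Projective R (LinearMap.ker f) := by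
  obtain ⟨r, ι, hι⟩ := DomMod.exists_injective_of_isTorsionFree R N
  have hd : ringKrullDim R = ((IsLocalRing.maximalIdeal R).spanFinrank : WithBot ℕ∞) :=
    (IsRegularLocalRing.spanFinrank_maximalIdeal (R := R)).symm
  have hd2 : (IsLocalRing.maximalIdeal R).spanFinrank ≤ 2 := by
    rw [hd] at hR
    exact_mod_cast hR
  have h1 : HasProjectiveDimensionLE (ModuleCat.of R ((Fin r → R) ⧸ LinearMap.range ι)) (1 + 1) :=
    pd_mono _ hd2 (Groth.Agent.S0563.result R _ hd _)
  rw [pd_shift _ (Submodule.mkQ_surjective _)] at h1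
  have e : LinearMap.ker (LinearMap.range ι).mkQ ≃ₗ[R] N :=
    (LinearEquiv.ofEq _ _ (Submodule.ker_mkQ _)).trans (LinearEquiv.ofInjective ι hι).symm
  have h2 : HasProjectiveDimensionLE (ModuleCat.of R N) (0 + 1) := pd_congr e 1 h1
  rw [pd_shift f hf] at h2
  exact (pd_zero_iff _).1 h2

/-- A projective module over a free algebra is projective over the base. -/
theorem projective_restrict (R A M : Type u) [CommRing R] [Ring A] [Algebra R A] [Module.Projective R A]
    [AddCommGroup M] [Module R M] [Module A M] [IsScalarTower R A M] [Module.Projective A M] :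
    Module.Projective R M := by
  obtain ⟨s, hs⟩ := Module.projective_def'.1 (inferInstance : Module.Projective A M)
  classical
  haveI : Module.Projective R (M →₀ A) :=
    Module.Projective.of_equiv (finsuppLEquivDirectSum R A M).symm
  exact Module.Projective.of_split (M := M →₀ A) (s.restrictScalars R)
    ((Finsupp.linearCombination A (id : M → M)).restrictScalars R) (LinearMap.ext fun m => LinearMap.congr_fun hs m)

section Scheme

variable {X : Scheme.{u}}

theorem isRegular_surface (k : Type u) [Field k] [X.Over (Spec (CommRingCat.of k))]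
    [Smooth (X ↘ Spec (CommRingCat.of k))] (x : X) : IsRegularLocalRing (X.presheaf.stalk x) :=
  CurveDVR.isRegularLocalRing_stalk (X ↘ Spec (CommRingCat.of k)) x

theorem isLocallyNoetherian_surface (k : Type u) [Field k] [X.Over (Spec (CommRingCat.of k))]
    [Smooth (X ↘ Spec (CommRingCat.of k))] : IsLocallyNoetherian X :=
  LocallyOfFiniteType.isLocallyNoetherian (X ↘ Spec (CommRingCat.of k))

theorem ringKrullDim_stalk_le {n : WithBot ℕ∞} (h : topologicalKrullDim X ≤ n) (x : X) :
    ringKrullDim (X.presheaf.stalk x) ≤ n := by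
  refine le_trans ?_ h
  rw [DimIneq.topologicalKrullDim_eq_iSup_stalk X]
  exact le_iSup (fun y : X => ringKrullDim (X.presheaf.stalk y)) x

theorem isFinLocFree_kernel_of_dim_two [IsIntegral X] [IsLocallyNoetherian X]
    (hreg : ∀ x : X, IsRegularLocalRing (X.presheaf.stalk x)) (hdim : topologicalKrullDim X ≤ 2)
    {M N : X.Modules} (hN : Coh.IsCoh N) (hNtf : TorSh.IsTorsionFree N) (hM : FlatMod.IsFinLocFree M)
    (φ : M ⟶ N) [Epi φ] : FlatMod.IsFinLocFree (kernel φ) := by
  have hMc := VBLib.isCoh_of_isFinLocFree hM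
  have hKc : Coh.IsCoh (kernel φ) := CohDev.isCoh_kernel φ hMc hN.1
  refine (Groth.Agent.S1688.finLocFree_iff _ hKc).2 fun x => ?_
  let S := ShortComplex.mk (kernel.ι φ) φ (kernel.condition φ)
  have hS : S.ShortExact :=
    { exact := ShortComplex.exact_of_f_is_kernel _ (kernelIsKernel φ)
      mono_f := inferInstanceAs (Mono (kernel.ι φ))
      epi_g := inferInstanceAs (Epi φ) }
  obtain ⟨hi, hex, hp⟩ := Groth.Agent.PullStalk.Exact.stalk_exact hS x
  haveI := hMc.1
  haveI := (Groth.Agent.Props.QProj.free_stalk M hM x).1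
  haveI := Groth.Agent.FDesc.QuasiFlat.finite_stalk_of_isCoh N hN x
  haveI := Groth.Agent.FDesc.QuasiFlat.finite_stalk_of_isCoh (kernel φ) hKc x
  haveI := hNtf x
  haveI := hreg x
  haveI : Module.Projective (X.presheaf.stalk x)
      (LinearMap.ker (Groth.Agent.PullStalk.Exact.stalkLin S.g x)) :=
    projective_ker_of_surjective (ringKrullDim_stalk_le hdim x) _ hp
  haveI : Module.Projective (X.presheaf.stalk x) ((kernel φ).presheaf.stalk x) :=
    Module.Projective.of_equiv ((LinearEquiv.ofInjective _ hi).trans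
      (LinearEquiv.ofEq _ _ (LinearMap.exact_iff.1 hex).symm)).symm
  exact Module.free_of_flat_of_isLocalRing

variable {A : Sheaf (Opens.grothendieckTopology X) RingCat.{u}} (φ : X.ringCatSheaf ⟶ A)

/-- the underlying `O`-module -/
noncomputable abbrev resMod (M : SheafOfModules.{u} A) : X.Modules := (SheafOfModules.restrictScalars φ).obj M

theorem thetaHom_smul (x : X) (b : RS (X := X.carrier) A x)
    (s : ↑(TopCat.Presheaf.stalk (C := Ab.{u}) (X := X.carrier) (SheafOfModules.unit A).val.presheaf x)) :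
    (thetaHom (A := A) x).hom (b • s) = b * (thetaHom (A := A) x).hom s := by
  obtain ⟨U, hxU, a, rfl⟩ := TopCat.Presheaf.exists_germ_eq (C := Ab.{u}) (SheafOfModules.unit A).val.presheaf s
  obtain ⟨V, hxV, c, rfl⟩ := TopCat.Presheaf.exists_germ_eq (C := RingCat.{u}) A.obj b
  have hx : x ∈ V ⊓ U := ⟨hxV, hxU⟩
  rw [← TopCat.Presheaf.germ_res_apply (C := RingCat.{u}) A.obj (homOfLE (inf_le_left : V ⊓ U ≤ V)) x hx c,
    ← TopCat.Presheaf.germ_res_apply (C := Ab.{u}) (SheafOfModules.unit A).val.presheaf (homOfLE (inf_le_right : V ⊓ U ≤ U)) x hx a]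
  refine (congrArg (thetaHom (A := A) x).hom
    (PresheafOfModules.germ_ringCat_smul (SheafOfModules.unit A).val x (V ⊓ U) hx _ _).symm).trans ?_
  refine (thetaHom_germ x (V ⊓ U) hx _).trans ?_
  refine (map_mul (TopCat.Presheaf.germ (C := RingCat.{u}) (X := X.carrier) A.obj (V ⊓ U) x hx).hom _ _).trans ?_
  exact congrArg (_ * ·) (thetaHom_germ x (V ⊓ U) hx _).symm

theorem smul_stalk_eq (M : SheafOfModules.{u} A) (x : X) (r : X.presheaf.stalk x)
    (s : ↑(TopCat.Presheaf.stalk (C := Ab.{u}) (X := X.carrier) M.val.presheaf x)) :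
    r • (show ↑((resMod φ M).presheaf.stalk x) from s) =
      (rho φ x r • s : ↑(TopCat.Presheaf.stalk (C := Ab.{u}) (X := X.carrier) M.val.presheaf x)) := by
  obtain ⟨U, hxU, a, rfl⟩ := TopCat.Presheaf.exists_germ_eq (C := Ab.{u}) M.val.presheaf s
  obtain ⟨V, hxV, c, rfl⟩ := X.presheaf.exists_germ_eq r
  have hx : x ∈ V ⊓ U := ⟨hxV, hxU⟩
  rw [← X.presheaf.germ_res_apply (homOfLE (inf_le_left : V ⊓ U ≤ V)) x hx c,
    ← TopCat.Presheaf.germ_res_apply (C := Ab.{u}) M.val.presheaf (homOfLE (inf_le_right : V ⊓ U ≤ U)) x hx a,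
    rho_germ]
  exact (PresheafOfModules.germ_smul (R := X.presheaf)
    (M := (resMod φ M).val) x (V ⊓ U) hx _ _).symm.trans
    (PresheafOfModules.germ_ringCat_smul M.val x (V ⊓ U) hx _ _)

theorem isFinLocFree_of_projective [IsLocallyNoetherian X]
    (hcen : ∀ (U : (Opens X)ᵒᵖ) (s : X.ringCatSheaf.obj.obj U) (a : A.obj.obj U),
      φ.hom.app U s * a = a * φ.hom.app U s)
    (hA : FlatMod.IsFinLocFree (X := X) ((SheafOfModules.restrictScalars φ).obj (SheafOfModules.unit A)))
    (M : SheafOfModules.{u} A)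
    (hMc : Coh.IsCoh (X := X) ((SheafOfModules.restrictScalars φ).obj M))
    (hMp : ∀ x : X, Module.Projective (RS (X := X.carrier) A x)
      ↑(TopCat.Presheaf.stalk (C := Ab.{u}) (X := X.carrier) M.val.presheaf x)) :
    FlatMod.IsFinLocFree (X := X) ((SheafOfModules.restrictScalars φ).obj M) := by
  refine (Groth.Agent.S1688.finLocFree_iff _ hMc).2 fun x => ?_
  let AA : X.Modules := (SheafOfModules.restrictScalars φ).obj (SheafOfModules.unit A)
  let MM : X.Modules := (SheafOfModules.restrictScalars φ).obj M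
  letI := (rho φ x).toAlgebra' (rho_central φ hcen x)
  have hAc := VBLib.isCoh_of_isFinLocFree hA
  haveI := hAc.1
  haveI : Module.Free (X.presheaf.stalk x) (AA.presheaf.stalk x) := (Groth.Agent.Props.QProj.free_stalk AA hA x).1
  let θ : ↑(AA.presheaf.stalk x) →ₗ[X.presheaf.stalk x] RS (X := X.carrier) A x :=
    { (thetaHom (A := A) x).hom with
      map_smul' := fun r s => (congrArg (thetaHom (A := A) x).hom
          (smul_stalk_eq φ (SheafOfModules.unit A) x r s)).trans (thetaHom_smul x _ s) }
  haveI : Module.Projective (X.presheaf.stalk x) (RS (X := X.carrier) A x) :=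
    Module.Projective.of_equiv (LinearEquiv.ofBijective θ (thetaHom_bijective x))
  let P := ↑(TopCat.Presheaf.stalk (C := Ab.{u}) (X := X.carrier) M.val.presheaf x)
  letI : Module (X.presheaf.stalk x) P := Module.compHom P (rho φ x)
  haveI : IsScalarTower (X.presheaf.stalk x) (RS (X := X.carrier) A x) P :=
    ⟨fun r a e => (mul_smul (rho φ x r) a e)⟩
  haveI := hMp x
  haveI := projective_restrict (X.presheaf.stalk x) (RS (X := X.carrier) A x) P
  haveI : Module.Projective (X.presheaf.stalk x) (MM.presheaf.stalk x) :=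
    Module.Projective.of_equiv
      ({ toFun := fun s => s, invFun := fun s => s, left_inv := fun _ => rfl, right_inv := fun _ => rfl,
         map_add' := fun _ _ => rfl, map_smul' := fun r s => (smul_stalk_eq φ M x r s).symm } :
        P ≃ₗ[X.presheaf.stalk x] MM.presheaf.stalk x)
  haveI := Groth.Agent.FDesc.QuasiFlat.finite_stalk_of_isCoh MM hMc x
  exact Module.free_of_flat_of_isLocalRing

end Scheme

end Groth.Agent.OrdSurfLib
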