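import Mathlib
import Groth.Agent.OrdSurfLib.Surface
import Groth.Agent.Ref1.Normal
import Groth.Agent.Omega.Stalks
import Groth.Agent.InjMod.Dual
import Groth.Agent.S9829
import Groth.Prelude.Def_CohB1

/-!
# A monomorphism of vector bundles which is an isomorphism in codimension one is an isomorphism
-/

set_option autoImplicit false
universe u

open CategoryTheory CategoryTheory.Limits AlgebraicGeometry Opposite TopologicalSpace

namespace Groth.Agent.OrdSurfLib

open Groth.Agent.PullStalk.Sky Groth.Agent.PullStalk.Exact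

variable {X : Scheme.{u}} [IsIntegral X]

theorem sp_stalkLin {F G : X.Modules} (φ : F ⟶ G) {y x : X} (h : y ⤳ x) (v : F.presheaf.stalk x) :
    Ref1.sp G h (stalkLin φ x v) = stalkLin φ y (Ref1.sp F h v) := by
  obtain ⟨V, hV, m, rfl⟩ := exists_germM_eq F x v
  rw [stalkLin_germ, Ref1.sp_germ, Ref1.sp_germ, stalkLin_germ]

theorem sp_comb {M : X.Modules} {U : X.Opens} {n : ℕ} (e : Fin n → Γ(M, U)) {y x : X} (h : y ⤳ x) (hx : x ∈ U)
    (c : Fin n → X.presheaf.stalk x) :
    Ref1.sp M h (LFFrame.stalkComb M e x hx c) =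
      LFFrame.stalkComb M e y (h.mem_open U.2 hx) (fun i => Ref1.spR h (c i)) := by
  simp only [LFFrame.stalkComb, Fintype.linearCombination_apply, map_sum, Ref1.sp_smul, Ref1.sp_germ]

theorem surjective_of_codim_one [IsLocallyNoetherian X] (hX : Pi1.IsNormalScheme X)
    {M N : X.Modules} (hM : FlatMod.IsFinLocFree M) (hN : FlatMod.IsFinLocFree N) (φ : M ⟶ N) [Mono φ]
    (h : ∀ y : X, ringKrullDim (X.presheaf.stalk y) ≤ 1 → Function.Surjective (stalkLin φ y)) (x : X) :
    Function.Surjective (stalkLin φ x) := by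
  intro w
  obtain ⟨U, n, e, hx, he⟩ := InjMod.hasFrames_of_isFinLocFree hM x
  have hη : genericPoint X ∈ U := (Ref1.hsp x).mem_open U.2 hx
  have h0 : ringKrullDim (X.presheaf.stalk (genericPoint X)) ≤ 1 := by
    have : ringKrullDim X.functionField = 0 := ringKrullDim_eq_zero_of_field _
    exact (show ringKrullDim (X.presheaf.stalk (genericPoint X)) = 0 from this).le.trans zero_le_one
  obtain ⟨u, hu⟩ := h _ h0 (Ref1.toη N x w)
  obtain ⟨a, ha⟩ := (he.stalkComb_bijective (genericPoint X) hη).2 u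
  have hreg : ∀ i, a i ∈ Set.range (Ref1.toK x) := fun i =>
    Ref1.mem_range_toK_of_codim_one hX x (a i) fun y hyx hy => by
      have hyU : y ∈ U := hyx.mem_open U.2 hx
      obtain ⟨v, hv⟩ := h y hy.le (Ref1.sp N hyx w)
      obtain ⟨b, hb⟩ := (he.stalkComb_bijective y hyU).2 v
      refine ⟨b i, congr_fun ((he.stalkComb_bijective (genericPoint X) hη).1 (a₁ := fun j => Ref1.toK y (b j)) (a₂ := a) ?_) i⟩
      refine (sp_comb e (Ref1.hsp y) hyU b).symm.trans ?_
      rw [hb, ha]
      refine (Omega.Stalks.stalkLin_injective_of_mono φ (genericPoint X)) ?_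
      rw [← sp_stalkLin, hv, hu, Ref1.sp_sp]
  choose c hc using hreg
  refine ⟨LFFrame.stalkComb M e x hx c, ?_⟩
  haveI : N.IsQuasicoherent := (VBLib.isCoh_of_isFinLocFree hN).1
  haveI := (Props.QProj.free_stalk N hN x).1
  refine Ref1.toη_injective N x inferInstance ?_
  refine (sp_stalkLin φ (Ref1.hsp x) _).trans ?_
  rw [sp_comb e (Ref1.hsp x) hx c, ← hu, ← ha]
  exact congrArg _ (congrArg _ (funext hc))

theorem isIso_or_exists_support [IsLocallyNoetherian X] (hX : Pi1.IsNormalScheme X)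
    {M N : X.Modules} (hM : FlatMod.IsFinLocFree M) (hN : FlatMod.IsFinLocFree N) (φ : M ⟶ N) [Mono φ] :
    IsIso φ ∨ ∃ x : X, x ∈ CohB1.support (cokernel φ) ∧ ringKrullDim (X.presheaf.stalk x) ≤ 1 := by
  by_contra! hcon
  refine hcon.1 (Omega.Stalks.isIso_of_stalk fun x => ⟨Omega.Stalks.stalkLin_injective_of_mono φ x, ?_⟩)
  refine surjective_of_codim_one hX hM hN φ (fun y hy w => ?_) x
  have hs : Subsingleton ((cokernel φ).presheaf.stalk y) :=
    not_not.1 fun hns => (hcon.2 y hns).not_ge hy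
  let S := ShortComplex.mk φ (cokernel.π φ) (cokernel.condition φ)
  have hS : S.ShortExact :=
    { exact := ShortComplex.exact_of_g_is_cokernel _ (cokernelIsCokernel φ)
      mono_f := inferInstanceAs (Mono φ)
      epi_g := inferInstanceAs (Epi (cokernel.π φ)) }
  exact ((stalk_exact hS y).2.1 w).1 (hs.elim _ _)

end Groth.Agent.OrdSurfLib
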