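import Mathlib

/-!
# `Ext` along an adjunction whose right adjoint is exact and preserves injectives
-/

set_option autoImplicit false

universe w w' v v' u u'

open CategoryTheory CategoryTheory.Limits

namespace Groth.Agent.OrdSurfLib

variable {C : Type u} [Category.{v} C] [Abelian C] [EnoughInjectives C] [HasExt.{w} C]
  {D : Type u'} [Category.{v'} D] [Abelian D] [HasExt.{w'} D]
  {L : D ⥤ C} {R : C ⥤ D} [R.Additive] [PreservesFiniteLimits R] [PreservesFiniteColimits R] (adj : L ⊣ R)

open Abelian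

/-- `e ↦ η ≫ R e`. -/
noncomputable def fromExt (A : D) (F : C) (n : ℕ) (e : Ext.{w} (L.obj A) F n) : Ext.{w'} A (R.obj F) n :=
  (Ext.mk₀ (adj.unit.app A)).comp (e.mapExactFunctor R) (zero_add n)

theorem fromExt_mk₀ (A : D) (F : C) (f : L.obj A ⟶ F) :
    fromExt adj A F 0 (Ext.mk₀ f) = Ext.mk₀ (adj.homEquiv A F f) := by
  rw [fromExt, Ext.mapExactFunctor_mk₀, Ext.mk₀_comp_mk₀, Adjunction.homEquiv_unit]

theorem fromExt_extClass {A : D} {S : ShortComplex C} (hS : S.ShortExact) {n : ℕ}
    (x : Ext.{w} (L.obj A) S.X₃ n) :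
    fromExt adj A S.X₁ (n + 1) (x.comp hS.extClass rfl) =
      (fromExt adj A S.X₃ n x).comp (hS.map_of_exact R).extClass rfl := by
  rw [fromExt, fromExt, Ext.mapExactFunctor_comp, Ext.mapExactFunctor_extClass]
  exact (Ext.comp_assoc _ _ _ (zero_add n) rfl (by omega)).symm

theorem fromExt_bijective (hR : ∀ I : C, Injective I → Injective (R.obj I)) (n : ℕ) :
    ∀ (A : D) (F : C), Function.Bijective (fromExt adj A F n) := by
  induction n with
  | zero =>
    intro A F
    have h : fromExt adj A F 0 = Ext.mk₀ ∘ (adj.homEquiv A F) ∘ Ext.homEquiv₀ := by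
      funext e
      obtain ⟨f, rfl⟩ := Ext.homEquiv₀.symm.surjective e
      simp only [Function.comp_apply, Equiv.apply_symm_apply]
      exact fromExt_mk₀ adj A F f
    rw [h]
    exact (Ext.mk₀_bijective _ _).comp ((Equiv.bijective _).comp (Equiv.bijective _))
  | succ n ih =>
    intro A F
    let S : ShortComplex C := ShortComplex.mk (Injective.ι F) (cokernel.π (Injective.ι F)) (cokernel.condition _)
    have hS : S.ShortExact := { exact := ShortComplex.exact_cokernel _ }
    have hRS := hS.map_of_exact R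
    haveI : Injective S.X₂ := inferInstanceAs (Injective (Injective.under F))
    haveI : Injective (S.map R).X₂ := hR S.X₂ inferInstance
    refine ⟨?_, fun y => ?_⟩
    · intro a b hab
      obtain ⟨a', rfl⟩ := Ext.covariant_sequence_exact₁ _ hS a (Ext.eq_zero_of_injective _) rfl
      obtain ⟨b', rfl⟩ := Ext.covariant_sequence_exact₁ _ hS b (Ext.eq_zero_of_injective _) rfl
      have hab' := (fromExt_extClass adj hS a').symm.trans (hab.trans (fromExt_extClass adj hS b'))
      have h0 : ((fromExt adj A S.X₃ n a') - (fromExt adj A S.X₃ n b')).comp hRS.extClass rfl = 0 := by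
        rw [sub_eq_add_neg, Ext.add_comp, Ext.neg_comp, ← sub_eq_add_neg, sub_eq_zero]; exact hab'
      obtain ⟨z, hz⟩ := Ext.covariant_sequence_exact₃ _ hRS _ rfl h0
      obtain ⟨z', rfl⟩ := (ih A S.X₂).2 z
      have h1 : fromExt adj A S.X₃ n (z'.comp (Ext.mk₀ S.g) (add_zero n)) =
          fromExt adj A S.X₃ n (a' - b') := by
        have h2 : fromExt adj A S.X₃ n (a' - b') = fromExt adj A S.X₃ n a' - fromExt adj A S.X₃ n b' := by
          have := (R.mapExtAddHom (L.obj A) S.X₃ n).map_sub a' b'
          simp only [Functor.mapExtAddHom_apply] at this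
          rw [fromExt, fromExt, fromExt, this, sub_eq_add_neg, Ext.comp_add, Ext.comp_neg, ← sub_eq_add_neg]
        rw [h2, ← hz, fromExt, fromExt, Ext.mapExactFunctor_comp, Ext.mapExactFunctor_mk₀]
        exact (Ext.comp_assoc_of_third_deg_zero _ _ _ _).symm
      have h3 := (ih A S.X₃).1 h1
      have h4 : (a' - b').comp hS.extClass rfl = 0 := by
        rw [← h3, Ext.comp_assoc_of_second_deg_zero, hS.comp_extClass, Ext.comp_zero]
      rwa [sub_eq_add_neg, Ext.add_comp, Ext.neg_comp, ← sub_eq_add_neg, sub_eq_zero] at h4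
    · obtain ⟨y', rfl⟩ := Ext.covariant_sequence_exact₁ _ hRS y (Ext.eq_zero_of_injective _) rfl
      obtain ⟨x, rfl⟩ := (ih A S.X₃).2 y'
      exact ⟨x.comp hS.extClass rfl, fromExt_extClass adj hS x⟩

end Groth.Agent.OrdSurfLib
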