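import Mathlib
import Groth.Prelude.Def_FlatMod2

/-!
# Every sheaf of `A`-modules is a quotient of one whose stalks are sums of stalks of `A`
-/

set_option autoImplicit false
universe u

open CategoryTheory CategoryTheory.Limits Opposite TopologicalSpace

namespace Groth.Agent.OrdSurfLib

section Space

variable {X : TopCat.{u}} {A : Sheaf (Opens.grothendieckTopology X) RingCat.{u}} (M : SheafOfModules.{u} A)

/-- local sections of `M`, as an index set -/
def Idx : Type u := Σ U : Opens X, M.val.obj (op U)

/-- the presheaf `V ↦ {(U, m) | V ⊆ U}` -/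
def idxPre : (Opens X)ᵒᵖ ⥤ Type u where
  obj V := { p : Idx M // V.unop ≤ p.1 }
  map {V W} f := ↾fun p => ⟨p.1, le_trans (leOfHom f.unop) p.2⟩
  map_id _ := rfl
  map_comp _ _ := rfl

/-- the free presheaf on the local sections of `M` -/
noncomputable def freePre : PresheafOfModules.{u} A.obj := PresheafOfModules.freeObj (idxPre M)

noncomputable def idxVal : idxPre M ⟶ M.val.presheaf ⋙ CategoryTheory.forget _ where
  app V := ↾fun p => M.val.map (homOfLE p.2).op p.1.2
  naturality V W f := by
    ext ⟨⟨U, m⟩, h⟩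
    exact ConcreteCategory.congr_hom (M.val.presheaf.map_comp (homOfLE h).op f) m

noncomputable def freeToPre : freePre M ⟶ M.val := PresheafOfModules.freeObjDesc (idxVal M)

theorem freeToPre_surjective (V : (Opens X)ᵒᵖ) (m : M.val.obj V) :
    ∃ a : (freePre M).obj V, (freeToPre M).app V a = m := by
  refine ⟨ModuleCat.freeMk (R := A.obj.obj V) (⟨⟨V.unop, m⟩, le_rfl⟩ : (idxPre M).obj V), ?_⟩
  refine (ModuleCat.freeDesc_apply _ _).trans ?_
  exact ConcreteCategory.congr_hom (M.val.presheaf.map_id V) m

/-- the cover of `M` -/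
noncomputable abbrev cover : SheafOfModules.{u} A :=
  (PresheafOfModules.sheafification (𝟙 A.obj)).obj (freePre M)

noncomputable def coverMap : cover M ⟶ M :=
  ((PresheafOfModules.sheafificationAdjunction (𝟙 A.obj)).homEquiv (freePre M) M).symm (freeToPre M)

theorem epi_coverMap : Epi (coverMap M) := by
  refine ⟨fun {Z} g h hgh => ?_⟩
  let e := (PresheafOfModules.sheafificationAdjunction (𝟙 A.obj))
  have key : ∀ g : M ⟶ Z, e.homEquiv _ _ (coverMap M ≫ g) =
      freeToPre M ≫ (SheafOfModules.forget A ⋙ PresheafOfModules.restrictScalars (𝟙 A.obj)).map g := fun g => by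
    rw [e.homEquiv_naturality_right]
    exact congrArg (· ≫ _) (Equiv.apply_symm_apply _ _)
  have h1 := ((key g).symm.trans (congrArg (e.homEquiv _ _) hgh)).trans (key h)
  refine SheafOfModules.hom_ext ?_
  ext V m
  obtain ⟨a, rfl⟩ := freeToPre_surjective M V m
  exact congrArg (fun q => q.app V a) h1

variable (x : X)

/-- indices defined at `x` -/
abbrev PIdx : Type u := { p : Idx M // x ∈ p.1 }

/-- the stalk of `A` -/
abbrev SA : Type u := ↑(TopCat.Presheaf.stalk (C := Ab.{u}) (X := X) (SheafOfModules.unit A).val.presheaf x)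

/-- germ of a section of `A` -/
noncomputable def gA (V : Opens X) (hx : x ∈ V) : A.obj.obj (op V) →+ SA (A := A) x :=
  (TopCat.Presheaf.germ (C := Ab.{u}) (SheafOfModules.unit A).val.presheaf V x hx).hom

theorem gA_res {V W : Opens X} (i : W ⟶ V) (hx : x ∈ W) (a : A.obj.obj (op V)) :
    gA x W hx (A.obj.map i.op a) = gA x V (leOfHom i hx) a :=
  TopCat.Presheaf.germ_res_apply (C := Ab.{u}) (SheafOfModules.unit A).val.presheaf i x hx a

/-- sections of the free presheaf -/
abbrev FV (V : Opens X) : Type u := (idxPre M).obj (op V) →₀ A.obj.obj (op V)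

/-- germs of the coefficients -/
noncomputable def coef0 (V : Opens X) (hx : x ∈ V) : FV M V →+ (PIdx M x →₀ SA (A := A) x) :=
  (Finsupp.mapDomain.addMonoidHom (fun p => (⟨p.1, p.2 hx⟩ : PIdx M x))).comp
    (Finsupp.mapRange.addMonoidHom (gA x V hx))

/-- germs of the coefficients -/
noncomputable def coefAt (V : Opens X) (hx : x ∈ V) :
    (freePre M).presheaf.obj (op V) ⟶ AddCommGrpCat.of (PIdx M x →₀ SA (A := A) x) :=
  AddCommGrpCat.ofHom (coef0 M x V hx)

theorem coef0_single (V : Opens X) (hx : x ∈ V) (p : (idxPre M).obj (op V)) (a : A.obj.obj (op V)) :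
    coef0 M x V hx (Finsupp.single p a) = Finsupp.single (⟨p.1, p.2 hx⟩ : PIdx M x) (gA x V hx a) := by
  simp [coef0]

theorem coefAt_single (V : Opens X) (hx : x ∈ V) (p : (idxPre M).obj (op V)) (a : A.obj.obj (op V)) :
    (coefAt M x V hx).hom (Finsupp.single p a : FV M V) = Finsupp.single (⟨p.1, p.2 hx⟩ : PIdx M x) (gA x V hx a) :=
  coef0_single M x V hx p a

/-- restriction of the free presheaf -/
noncomputable def resF {V W : Opens X} (i : W ⟶ V) : FV M V →+ FV M W :=
  ((freePre M).presheaf.map i.op).hom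

theorem resF_single {V W : Opens X} (i : W ⟶ V) (p : (idxPre M).obj (op V)) (a : A.obj.obj (op V)) :
    resF M i (Finsupp.single p a) = Finsupp.single ((idxPre M).map i.op p) (A.obj.map i.op a) := by
  have h2 : (Finsupp.single p a : FV M V) = a • (Finsupp.single p (1 : A.obj.obj (op V))) := by simp
  rw [h2]
  refine ((freePre M).map_smul i.op a _).trans ?_
  refine (congrArg (A.obj.map i.op a • ·) (ModuleCat.freeDesc_apply _ _)).trans ?_
  exact (Finsupp.smul_single _ _ _).trans (congrArg _ (mul_one _))

theorem coef0_natural {V W : Opens X} (i : W ⟶ V) (hx : x ∈ W) :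
    (coef0 M x W hx).comp (resF M i) = coef0 M x V (leOfHom i hx) := by
  refine Finsupp.addHom_ext fun p a => ?_
  rw [AddMonoidHom.comp_apply, resF_single, coef0_single, coef0_single, gA_res]
  rfl

theorem coefAt_natural {V W : Opens X} (i : W ⟶ V) (hx : x ∈ W) :
    (freePre M).presheaf.map i.op ≫ coefAt M x W hx = coefAt M x V (leOfHom i hx) :=
  AddCommGrpCat.hom_ext (coef0_natural M x i hx)

/-- the stalk map -/
noncomputable def preCoef : TopCat.Presheaf.stalk (C := Ab.{u}) (X := X) (freePre M).presheaf x ⟶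
      AddCommGrpCat.of (PIdx M x →₀ ↑(TopCat.Presheaf.stalk (C := Ab.{u}) (X := X) (SheafOfModules.unit A).val.presheaf x)) :=
  colimit.desc _
    { pt := _
      ι := { app := fun U => coefAt M x U.unop.1 U.unop.2
             naturality := fun U V i => by
               refine Eq.trans ?_ (Category.comp_id _).symm
               exact coefAt_natural M x ((OpenNhds.inclusion x).map i.unop) V.unop.2 } }

theorem preCoef_germ (V : Opens X) (hx : x ∈ V) :
    TopCat.Presheaf.germ (C := Ab.{u}) (X := X) (freePre M).presheaf V x hx ≫ preCoef M x = coefAt M x V hx :=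
  colimit.ι_desc _ (op (⟨V, hx⟩ : OpenNhds x))

theorem preCoef_germ_apply (V : Opens X) (hx : x ∈ V) (f : (freePre M).obj (op V)) :
    (preCoef M x).hom ((TopCat.Presheaf.germ (C := Ab.{u}) (X := X) (freePre M).presheaf V x hx).hom f) =
      coef0 M x V hx f :=
  ConcreteCategory.congr_hom (preCoef_germ M x V hx) f

theorem preCoef_surjective : Function.Surjective (preCoef M x).hom := by
  intro t
  induction t using Finsupp.induction_linear with
  | zero => exact ⟨0, map_zero _⟩
  | add f g hf hg =>
    obtain ⟨a, rfl⟩ := hf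
    obtain ⟨b, rfl⟩ := hg
    exact ⟨a + b, map_add _ a b⟩
  | single p s =>
    obtain ⟨W, hxW, a, rfl⟩ := TopCat.Presheaf.exists_germ_eq _ s
    refine ⟨_, (preCoef_germ_apply M x (W ⊓ p.1.1) ⟨hxW, p.2⟩
      (Finsupp.single (⟨p.1, inf_le_right⟩ : (idxPre M).obj (op (W ⊓ p.1.1)))
        (A.obj.map (homOfLE inf_le_left).op a) : FV M (W ⊓ p.1.1))).trans ?_⟩
    refine (coef0_single M x _ _ _ _).trans ?_
    rw [gA_res]
    rfl

theorem preCoef_injective : Function.Injective (preCoef M x).hom := by
  classical
  refine (injective_iff_map_eq_zero _).2 fun s hs => ?_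
  obtain ⟨V, hxV, f, rfl⟩ := TopCat.Presheaf.exists_germ_eq _ s
  have hf : coef0 M x V hxV f = 0 := (preCoef_germ_apply M x V hxV f).symm.trans hs
  change FV M V at f
  have hinj : Function.Injective (fun p : (idxPre M).obj (op V) => (⟨p.1, p.2 hxV⟩ : PIdx M x)) := by
    rintro ⟨p, hp⟩ ⟨q, hq⟩ h
    exact Subtype.ext (congrArg (fun t : PIdx M x => t.1) h)
  have h0 : ∀ p, gA x V hxV (f p) = 0 := by
    intro p
    have := DFunLike.congr_fun hf ⟨p.1, p.2 hxV⟩
    simpa [coef0, Finsupp.mapDomain_apply hinj] using this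
  have hW : ∀ p, ∃ W : Opens X, ∃ (_ : x ∈ W) (i : W ⟶ V), A.obj.map i.op (f p) = 0 := by
    intro p
    obtain ⟨W, hW, i, j, h⟩ := TopCat.Presheaf.germ_eq (C := Ab.{u}) (SheafOfModules.unit A).val.presheaf x hxV hxV (f p) (0 : A.obj.obj (op V))
      ((h0 p).trans (map_zero (gA x V hxV)).symm)
    refine ⟨W, hW, i, h.trans ?_⟩
    exact map_zero ((SheafOfModules.unit A).val.presheaf.map j.op).hom
  choose W hxW iW hW using hW
  let W0 : Opens X := f.support.inf W ⊓ V
  have hx0 : x ∈ W0 := ⟨Finset.inf_induction (p := fun U : Opens X => x ∈ U) trivial (fun a ha b hb => ⟨ha, hb⟩)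
    (fun p _ => hxW p), hxV⟩
  have h3 : resF M (homOfLE (inf_le_right : W0 ≤ V)) f = 0 := by
    refine (congrArg (resF M (homOfLE (inf_le_right : W0 ≤ V))) (Finsupp.sum_single f).symm).trans
      ((map_finsuppSum _ _ _).trans (Finset.sum_eq_zero fun p hp => ?_))
    have hz : A.obj.map (homOfLE (inf_le_right : W0 ≤ V)).op (f p) = 0 := by
      rw [show homOfLE (inf_le_right : W0 ≤ V) =
        homOfLE (inf_le_left.trans (Finset.inf_le hp) : W0 ≤ W p) ≫ iW p from Subsingleton.elim _ _, op_comp,
        A.obj.map_comp]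
      exact (congrArg (A.obj.map (homOfLE (inf_le_left.trans (Finset.inf_le hp) : W0 ≤ W p)).op).hom (hW p)).trans (map_zero _)
    refine (resF_single M _ _ _).trans ?_
    refine Finsupp.single_eq_zero.2 ?_
    exact hz
  exact (TopCat.Presheaf.germ_res_apply (C := Ab.{u}) (freePre M).presheaf
    (homOfLE (inf_le_right : W0 ≤ V)) x hx0 f).symm.trans ((congrArg _ h3).trans (map_zero _))

theorem coef0_smul (V : Opens X) (hx : x ∈ V) (a : A.obj.obj (op V)) (f : FV M V)
    (c : SA (A := A) x →+ SA (A := A) x) (h : ∀ b, gA x V hx (a * b) = c (gA x V hx b)) :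
    coef0 M x V hx (a • f) = Finsupp.mapRange c (map_zero c) (coef0 M x V hx f) := by
  have h1 : (coef0 M x V hx).comp (DistribSMul.toAddMonoidHom (FV M V) a) =
      (Finsupp.mapRange.addMonoidHom c).comp (coef0 M x V hx) := by
    refine Finsupp.addHom_ext fun p b => ?_
    show coef0 M x V hx (a • Finsupp.single p b) = Finsupp.mapRange c (map_zero c) (coef0 M x V hx (Finsupp.single p b))
    rw [Finsupp.smul_single, smul_eq_mul, coef0_single, coef0_single, Finsupp.mapRange_single, h]
  exact DFunLike.congr_fun h1 f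

end Space

section Scheme

open AlgebraicGeometry

variable {X : Scheme.{u}} {A : Sheaf (Opens.grothendieckTopology X) RingCat.{u}} (φ : X.ringCatSheaf ⟶ A)

theorem isFlat_cover
    (hA : FlatMod.IsFlat (X := X) ((SheafOfModules.restrictScalars φ).obj (SheafOfModules.unit A)))
    (M : SheafOfModules.{u} A) :
    FlatMod.IsFlat (X := X) ((SheafOfModules.restrictScalars φ).obj (cover M)) := by
  classical
  intro x
  let AA : X.Modules := (SheafOfModules.restrictScalars φ).obj (SheafOfModules.unit A)
  let FF : X.Modules := (SheafOfModules.restrictScalars φ).obj (cover M)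
  haveI : Module.Flat (X.presheaf.stalk x) (AA.presheaf.stalk x) := hA x
  let η := ((PresheafOfModules.sheafificationAdjunction (𝟙 A.obj)).unit.app (freePre M))
  have hiso : IsIso ((TopCat.Presheaf.stalkFunctor Ab.{u} x).map
      ((PresheafOfModules.toPresheaf _).map η)) :=
    TopCat.Presheaf.stalkFunctor_map_unit_toSheafify_isIso (X := X.carrier) x AddCommGrpCat.{u} (freePre M).presheaf
  let e := @asIso _ _ _ _ _ hiso
  let ψ : ↑(FF.presheaf.stalk x) →+ (PIdx M x →₀ ↑(AA.presheaf.stalk x)) :=
    ((preCoef M x).hom).comp e.inv.hom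
  have hψ : Function.Bijective ψ :=
    Function.Bijective.comp (g := (preCoef M x).hom) ⟨preCoef_injective M x, preCoef_surjective M x⟩
      e.addCommGroupIsoToAddEquiv.symm.bijective
  have key : ∀ (V : X.Opens) (hx : x ∈ V) (f : (freePre M).obj (op V)),
      ψ ((TopCat.Presheaf.germ (C := Ab.{u}) (X := X.carrier) (cover M).val.presheaf V x hx).hom (η.app (op V) f)) =
        coef0 M x V hx f := by
    intro V hx f
    have h := ConcreteCategory.congr_hom (TopCat.Presheaf.stalkFunctor_map_germ (C := Ab.{u}) (X := X.carrier)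
      V x hx ((PresheafOfModules.toPresheaf _).map η)) f
    refine Eq.trans ?_ (preCoef_germ_apply M x V hx f)
    refine congrArg (preCoef M x).hom ?_
    refine (congrArg e.inv.hom h.symm).trans ?_
    exact e.addCommGroupIsoToAddEquiv.symm_apply_apply _
  let ψl : ↑(FF.presheaf.stalk x) →ₗ[X.presheaf.stalk x] (PIdx M x →₀ ↑(AA.presheaf.stalk x)) :=
    { ψ with
      map_smul' := fun r s => by
        obtain ⟨t, rfl⟩ : ∃ t, e.hom.hom t = s := ⟨e.inv.hom s, e.addCommGroupIsoToAddEquiv.apply_symm_apply s⟩
        obtain ⟨V, hxV, f, rfl⟩ := TopCat.Presheaf.exists_germ_eq _ t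
        obtain ⟨W, hxW, c, rfl⟩ := X.presheaf.exists_germ_eq r
        let V' : X.Opens := W ⊓ V
        have hx : x ∈ V' := ⟨hxW, hxV⟩
        let f' : (freePre M).obj (op V') := (freePre M).map (homOfLE (inf_le_right : V' ≤ V)).op f
        let c' : Γ(X, V') := X.presheaf.map (homOfLE (inf_le_left : V' ≤ W)).op c
        have hf' : e.hom.hom ((TopCat.Presheaf.germ (C := Ab.{u}) (X := X.carrier) (freePre M).presheaf V x hxV).hom f) =
            (TopCat.Presheaf.germ (C := Ab.{u}) (X := X.carrier) (cover M).val.presheaf V' x hx).hom (η.app (op V') f') := by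
          refine (congrArg e.hom.hom (TopCat.Presheaf.germ_res_apply (C := Ab.{u}) (freePre M).presheaf
            (homOfLE (inf_le_right : V' ≤ V)) x hx f).symm).trans ?_
          exact ConcreteCategory.congr_hom (TopCat.Presheaf.stalkFunctor_map_germ (C := Ab.{u}) (X := X.carrier)
            V' x hx ((PresheafOfModules.toPresheaf _).map η)) f'
        have hc' : (X.presheaf.germ W x hxW).hom c = (X.presheaf.germ V' x hx).hom c' :=
          (X.presheaf.germ_res_apply (homOfLE (inf_le_left : V' ≤ W)) x hx c).symm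
        let a : A.obj.obj (op V') := φ.hom.app (op V') c'
        have hFsmul : (TopCat.Presheaf.germ (C := Ab.{u}) (X := X.carrier) (cover M).val.presheaf V' x hx).hom
              (η.app (op V') (a • f')) =
            ((X.presheaf.germ V' x hx).hom c' : X.presheaf.stalk x) •
              (show ↑(FF.presheaf.stalk x) from
                (TopCat.Presheaf.germ (C := Ab.{u}) (X := X.carrier) (cover M).val.presheaf V' x hx).hom (η.app (op V') f')) := by
          refine (congrArg _ ((η.app (op V')).hom.map_smul a f')).trans ?_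
          exact PresheafOfModules.germ_smul (R := X.presheaf) (M := FF.val) x V' hx c' (η.app (op V') f')
        have hA' : ∀ b : A.obj.obj (op V'),
            (TopCat.Presheaf.germ (C := Ab.{u}) (X := X.carrier) (SheafOfModules.unit A).val.presheaf V' x hx).hom (a * b) =
            ((X.presheaf.germ V' x hx).hom c' : X.presheaf.stalk x) •
              (show ↑(AA.presheaf.stalk x) from
                (TopCat.Presheaf.germ (C := Ab.{u}) (X := X.carrier) (SheafOfModules.unit A).val.presheaf V' x hx).hom b) :=
          fun b => PresheafOfModules.germ_smul (R := X.presheaf) (M := AA.val) x V' hx c' b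
        show ψ _ = _ • ψ _
        suffices h : ∀ (r' : X.presheaf.stalk x) (s' : ↑(FF.presheaf.stalk x)),
            r' = (X.presheaf.germ V' x hx).hom c' →
            s' = (TopCat.Presheaf.germ (C := Ab.{u}) (X := X.carrier) (cover M).val.presheaf V' x hx).hom (η.app (op V') f') →
            ψ (r' • s') = r' • ψ s' from h _ _ hc' hf'
        intro r' s' hr' hs'
        subst hr' hs'
        refine (congrArg ψ hFsmul.symm).trans ((key V' hx _).trans ?_)
        refine Eq.trans ?_ (congrArg (((X.presheaf.germ V' x hx).hom c' : X.presheaf.stalk x) • ·) (key V' hx f').symm)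
        refine (coef0_smul M x V' hx a f' (DistribSMul.toAddMonoidHom ↑(AA.presheaf.stalk x) ((X.presheaf.germ V' x hx).hom c' : X.presheaf.stalk x)) hA').trans ?_
        exact Finsupp.ext fun _ => rfl }
  haveI : Module.Flat (X.presheaf.stalk x) (PIdx M x →₀ ↑(AA.presheaf.stalk x)) :=
    Module.Flat.of_linearEquiv (finsuppLEquivDirectSum (X.presheaf.stalk x) ↑(AA.presheaf.stalk x) (PIdx M x))
  exact Module.Flat.of_linearEquiv (LinearEquiv.ofBijective ψl hψ)

end Scheme

end Groth.Agent.OrdSurfLib
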