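import Mathlib
import Groth.Agent.KSMod.Tensor
import Groth.Agent.KSMod.Scalar
import Groth.Agent.KSMod.EndFinite
import Groth.Agent.KSMod.FieldBC
import Groth.Agent.KSMod.Invertible
import Groth.Agent.VBLib.RR
import Groth.Agent.ProjTwist.Tensor
import Groth.Agent.AmpleLib.Basic
import Groth.Agent.LFFrame.Basic

/-!
# Tensoring `O ⊕ I ⊕ J ⊕ (I ⊗ J)` with an invertible module
-/

set_option autoImplicit false
universe u

open CategoryTheory CategoryTheory.Limits AlgebraicGeometry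

noncomputable section

namespace Groth.Agent.OrdSurfLib

open Groth.Agent.KSMod Groth.Agent.ProjTwist

variable {X : Scheme.{u}}

theorem four_total {C : Type*} [Category C] [Preadditive C] [HasBinaryBiproducts C] (A B D E : C) :
    (biprod.fst : A ⊞ (B ⊞ (D ⊞ E)) ⟶ A) ≫ biprod.inl +
        ((biprod.snd : A ⊞ (B ⊞ (D ⊞ E)) ⟶ _) ≫ (biprod.fst : B ⊞ (D ⊞ E) ⟶ B)) ≫ biprod.inl ≫ biprod.inr +
        ((biprod.snd : A ⊞ (B ⊞ (D ⊞ E)) ⟶ _) ≫ (biprod.snd : B ⊞ (D ⊞ E) ⟶ _) ≫ (biprod.fst : D ⊞ E ⟶ D)) ≫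
          biprod.inl ≫ biprod.inr ≫ biprod.inr +
        ((biprod.snd : A ⊞ (B ⊞ (D ⊞ E)) ⟶ _) ≫ (biprod.snd : B ⊞ (D ⊞ E) ⟶ _) ≫ (biprod.snd : D ⊞ E ⟶ E)) ≫
          biprod.inr ≫ biprod.inr ≫ biprod.inr = 𝟙 _ := by
  refine biprod.hom_ext' _ _ ?_ (biprod.hom_ext' _ _ ?_ (biprod.hom_ext' _ _ ?_ ?_))
  all_goals simp

/-- the four summands -/
def kFam (I J : X.Modules) : Fin 4 → X.Modules
  | 0 => Coh.structureModule X
  | 1 => I
  | 2 => J
  | 3 => CohB1.tensorMod I J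

/-- the decomposition of the sum -/
def dec4 (I J : X.Modules) :
    Dec (Coh.structureModule X ⊞ I ⊞ J ⊞ CohB1.tensorMod I J) (kFam I J) where
  inj := fun i => match i with
    | 0 => (biprod.inl : Coh.structureModule X ⟶ Coh.structureModule X ⊞ (I ⊞ (J ⊞ CohB1.tensorMod I J)))
    | 1 => (biprod.inl : I ⟶ I ⊞ (J ⊞ CohB1.tensorMod I J)) ≫ biprod.inr
    | 2 => (biprod.inl : J ⟶ J ⊞ CohB1.tensorMod I J) ≫
        (biprod.inr : _ ⟶ I ⊞ (J ⊞ CohB1.tensorMod I J)) ≫ biprod.inr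
    | 3 => (biprod.inr : CohB1.tensorMod I J ⟶ J ⊞ CohB1.tensorMod I J) ≫
        (biprod.inr : _ ⟶ I ⊞ (J ⊞ CohB1.tensorMod I J)) ≫ biprod.inr
  proj := fun i => match i with
    | 0 => (biprod.fst : Coh.structureModule X ⊞ (I ⊞ (J ⊞ CohB1.tensorMod I J)) ⟶ Coh.structureModule X)
    | 1 => biprod.snd ≫ (biprod.fst : I ⊞ (J ⊞ CohB1.tensorMod I J) ⟶ I)
    | 2 => biprod.snd ≫ (biprod.snd : I ⊞ (J ⊞ CohB1.tensorMod I J) ⟶ _) ≫
        (biprod.fst : J ⊞ CohB1.tensorMod I J ⟶ J)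
    | 3 => biprod.snd ≫ (biprod.snd : I ⊞ (J ⊞ CohB1.tensorMod I J) ⟶ _) ≫
        (biprod.snd : J ⊞ CohB1.tensorMod I J ⟶ CohB1.tensorMod I J)
  inj_proj i := by fin_cases i <;> simp <;> rfl
  inj_proj_ne i j h := by fin_cases i <;> fin_cases j <;> simp at h ⊢
  total := by
    rw [Fin.sum_univ_four]
    exact four_total _ _ _ _

/-- the Klein involutions -/
def kPerm : Fin 4 → Fin 4 ≃ Fin 4
  | 0 => Equiv.refl _
  | 1 => Equiv.ofBijective ![1, 0, 3, 2] (by decide)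
  | 2 => Equiv.ofBijective ![2, 3, 0, 1] (by decide)
  | 3 => Equiv.ofBijective ![3, 2, 1, 0] (by decide)

section

variable (I J : X.Modules) (eI : CohB1.tensorMod I I ≅ Coh.structureModule X)
  (eJ : CohB1.tensorMod J J ≅ Coh.structureModule X)

include eI eJ in
theorem nonempty_tensor_kFam (a i : Fin 4) :
    Nonempty (CohB1.tensorMod (kFam I J i) (kFam I J a) ≅ kFam I J (kPerm a i)) := by
  have hJI : CohB1.tensorMod J I ≅ CohB1.tensorMod I J := tensComm J I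
  have hIJI : CohB1.tensorMod (CohB1.tensorMod I J) I ≅ J :=
    tensCongr (tensComm I J) (Iso.refl I) ≪≫ tensAssoc J I I ≪≫ tensCongr (Iso.refl J) eI ≪≫ tensOne J
  have hIJJ : CohB1.tensorMod (CohB1.tensorMod I J) J ≅ I :=
    tensAssoc I J J ≪≫ tensCongr (Iso.refl I) eJ ≪≫ tensOne I
  have hKK : CohB1.tensorMod (CohB1.tensorMod I J) (CohB1.tensorMod I J) ≅ Coh.structureModule X :=
    (tensAssoc (CohB1.tensorMod I J) I J).symm ≪≫ tensCongr hIJI (Iso.refl J) ≪≫ eJ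
  fin_cases a <;> fin_cases i
  exacts [⟨tensOne _⟩, ⟨tensOne _⟩, ⟨tensOne _⟩, ⟨tensOne _⟩,
    ⟨oneTens _⟩, ⟨eI⟩, ⟨hJI⟩, ⟨hIJI⟩,
    ⟨oneTens _⟩, ⟨Iso.refl _⟩, ⟨eJ⟩, ⟨hIJJ⟩,
    ⟨oneTens _⟩, ⟨tensComm _ _ ≪≫ hIJI⟩, ⟨tensComm _ _ ≪≫ hIJJ⟩, ⟨hKK⟩]

include eI eJ in
theorem nonempty_sum_tensor (L : X.Modules) (a : Fin 4) (φ : L ≅ kFam I J a) :
    Nonempty (CohB1.tensorMod (Coh.structureModule X ⊞ I ⊞ J ⊞ CohB1.tensorMod I J) L ≅
      Coh.structureModule X ⊞ I ⊞ J ⊞ CohB1.tensorMod I J) := by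
  haveI : HasFiniteBiproducts X.Modules := Abelian.hasFiniteBiproducts
  let d1 := (((dec4 I J).map (tR L)).congr (Iso.refl _)
    (fun i => tensCongr (Iso.refl (kFam I J i)) φ ≪≫ (nonempty_tensor_kFam I J eI eJ a i).some))
  let d2 := (dec4 I J).reindex (kPerm a)
  exact ⟨d1.iso ≪≫ d2.iso.symm⟩

end

theorem exists_iso_kFam (k : Type u) [Field k] [IsAlgClosed k] [X.Over (Spec (CommRingCat.of k))]
    [IsIntegral X] [IsProper (X ↘ Spec (CommRingCat.of k))] {I J L : X.Modules}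
    (hI : PicF.IsInvertible I) (hJ : PicF.IsInvertible J) (hL : PicF.IsInvertible L)
    (e : CohB1.tensorMod (Coh.structureModule X ⊞ I ⊞ J ⊞ CohB1.tensorMod I J) L ≅
      Coh.structureModule X ⊞ I ⊞ J ⊞ CohB1.tensorMod I J) :
    ∃ a, Nonempty (L ≅ kFam I J a) := by
  obtain ⟨hinj, hsurj⟩ := Groth.Agent.VBLib.bijective_toGlobal_of_isAlgClosed (k := k) (X := X)
  have hunit : ∀ r : Γ(X, ⊤), r ≠ 0 → IsUnit r := fun r hr => by
    obtain ⟨c, rfl⟩ := hsurj r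
    exact (isUnit_iff_ne_zero.2 fun (h : c = 0) => hr (h ▸ map_zero _)).map _
  let g : L ⟶ Coh.structureModule X ⊞ I ⊞ J ⊞ CohB1.tensorMod I J :=
    (oneTens L).inv ≫ (tR L).map ((dec4 I J).inj 0) ≫ e.hom
  let p : Coh.structureModule X ⊞ I ⊞ J ⊞ CohB1.tensorMod I J ⟶ L :=
    e.inv ≫ (tR L).map ((dec4 I J).proj 0) ≫ (oneTens L).hom
  have hgp : g ≫ p = 𝟙 L := by
    simp only [g, p, Category.assoc]
    erw [e.hom_inv_id_assoc, ← Functor.map_comp_assoc, (dec4 I J).inj_proj 0,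
      CategoryTheory.Functor.map_id, Category.id_comp]
    exact (oneTens L).inv_hom_id
  have hsum : ∑ a, (g ≫ (dec4 I J).proj a) ≫ ((dec4 I J).inj a ≫ p) = 𝟙 L := by
    rw [show (∑ a, (g ≫ (dec4 I J).proj a) ≫ ((dec4 I J).inj a ≫ p)) =
        g ≫ (∑ a, (dec4 I J).proj a ≫ (dec4 I J).inj a) ≫ p by
      simp only [Preadditive.sum_comp, Preadditive.comp_sum, Category.assoc]]
    rw [(dec4 I J).total, Category.id_comp, hgp]
  have h0 : ¬ IsZero L := (indec_of_isInvertible hL).1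
  obtain ⟨a, ha⟩ : ∃ a, (g ≫ (dec4 I J).proj a) ≫ ((dec4 I J).inj a ≫ p) ≠ 0 := by
    by_contra! hcon
    exact h0 ((IsZero.iff_id_eq_zero L).2 (hsum.symm.trans (Finset.sum_eq_zero fun a _ => hcon a)))
  obtain ⟨r, hr⟩ := exists_eq_scal hL ((g ≫ (dec4 I J).proj a) ≫ ((dec4 I J).inj a ≫ p))
  have hr0 : r ≠ 0 := fun h => ha (by
    rw [hr, h]
    exact map_zero (scalHom L))
  haveI : IsIso ((g ≫ (dec4 I J).proj a) ≫ ((dec4 I J).inj a ≫ p)) := by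
    rw [hr]
    exact (CategoryTheory.isUnit_iff_isIso _).1 ((hunit r hr0).map (scalHom L))
  have hK := AmpleLib.isInvertible_tensorMod hI hJ
  have hind : ∀ b, Indec (kFam I J b) := fun b => indec_of_isInvertible (match b with
    | 0 => LFFrame.isInvertible_structureModule X
    | 1 => hI
    | 2 => hJ
    | 3 => hK)
  exact ⟨a, iso_of_retract h0 (hind a) (g ≫ (dec4 I J).proj a)
    ((dec4 I J).inj a ≫ p ≫ inv ((g ≫ (dec4 I J).proj a) ≫ ((dec4 I J).inj a ≫ p)))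
    (by
      have := IsIso.hom_inv_id ((g ≫ (dec4 I J).proj a) ≫ ((dec4 I J).inj a ≫ p))
      simpa only [Category.assoc] using this)⟩

end Groth.Agent.OrdSurfLib
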