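import Mathlib
import Groth.Agent.OrdSurfLib.Surface
import Groth.Agent.Ref1.Sp
import Groth.Agent.Div61.Global
import Groth.Agent.S9829
import Groth.Agent.VBLib.RR
import Groth.Agent.ProjProper.Basic
import Groth.Prelude.Def_RefHull

/-!
# Torsion-free modules over an algebra with simple generic stalk
-/

set_option autoImplicit false
universe u

open CategoryTheory CategoryTheory.Limits AlgebraicGeometry Opposite TopologicalSpace Polynomial

namespace Groth.Agent.OrdSurfLib

variable {X : Scheme.{u}} {A : Sheaf (Opens.grothendieckTopology X) RingCat.{u}} (φ : X.ringCatSheaf ⟶ A)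

/-- stalk of a sheaf of `A`-modules -/
abbrev MS (M : SheafOfModules.{u} A) (x : X) : Type u :=
  ↑(TopCat.Presheaf.stalk (C := Ab.{u}) (X := X.carrier) M.val.presheaf x)

/-- the `A`-linear stalk map -/
noncomputable def stA {M N : SheafOfModules.{u} A} (ψ : M ⟶ N) (x : X) :
    MS M x →ₗ[RS (X := X.carrier) A x] MS N x where
  toFun := ((TopCat.Presheaf.stalkFunctor Ab.{u} x).map ((PresheafOfModules.toPresheaf _).map ψ.val)).hom
  map_add' := map_add _
  map_smul' b s := by
    obtain ⟨U, hxU, a, rfl⟩ := TopCat.Presheaf.exists_germ_eq (C := Ab.{u}) M.val.presheaf s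
    obtain ⟨V, hxV, c, rfl⟩ := TopCat.Presheaf.exists_germ_eq (C := RingCat.{u}) A.obj b
    have hx : x ∈ V ⊓ U := ⟨hxV, hxU⟩
    rw [← TopCat.Presheaf.germ_res_apply (C := RingCat.{u}) A.obj (homOfLE (inf_le_left : V ⊓ U ≤ V)) x hx c,
      ← TopCat.Presheaf.germ_res_apply (C := Ab.{u}) M.val.presheaf (homOfLE (inf_le_right : V ⊓ U ≤ U)) x hx a,
      RingHom.id_apply]
    refine (congrArg _ (PresheafOfModules.germ_ringCat_smul M.val x (V ⊓ U) hx _ _).symm).trans ?_
    refine (TopCat.Presheaf.stalkFunctor_map_germ_apply (C := Ab.{u}) (V ⊓ U) x hx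
      ((PresheafOfModules.toPresheaf _).map ψ.val) _).trans ?_
    refine (congrArg _ ((ψ.val.app (op (V ⊓ U))).hom.map_smul _ _)).trans ?_
    refine (PresheafOfModules.germ_ringCat_smul N.val x (V ⊓ U) hx _ _).trans ?_
    exact congrArg _ (TopCat.Presheaf.stalkFunctor_map_germ_apply (C := Ab.{u}) (V ⊓ U) x hx
      ((PresheafOfModules.toPresheaf _).map ψ.val) _).symm

theorem stA_germ {M N : SheafOfModules.{u} A} (ψ : M ⟶ N) (U : X.Opens) (x : X) (hx : x ∈ U)
    (m : M.val.obj (op U)) :
    stA ψ x ((TopCat.Presheaf.germ (C := Ab.{u}) (X := X.carrier) M.val.presheaf U x hx).hom m) =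
      (TopCat.Presheaf.germ (C := Ab.{u}) (X := X.carrier) N.val.presheaf U x hx).hom (ψ.val.app (op U) m) :=
  TopCat.Presheaf.stalkFunctor_map_germ_apply (C := Ab.{u}) U x hx ((PresheafOfModules.toPresheaf _).map ψ.val) m

theorem stA_zero {M N : SheafOfModules.{u} A} (x : X) : stA (0 : M ⟶ N) x = 0 := by
  refine LinearMap.ext fun s => ?_
  obtain ⟨U, hxU, a, rfl⟩ := TopCat.Presheaf.exists_germ_eq (C := Ab.{u}) M.val.presheaf s
  exact (stA_germ _ U x hxU a).trans (map_zero _)

variable [IsIntegral X]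

theorem germ_eq_zero_of_generic {M : SheafOfModules.{u} A} (hc : Coh.IsCoh (resMod φ M))
    (ht : TorSh.IsTorsionFree (resMod φ M)) {U : X.Opens} {x : X} (hx : x ∈ U) (m : M.val.obj (op U))
    (h : ∀ hη : genericPoint X ∈ U,
      (TopCat.Presheaf.germ (C := Ab.{u}) (X := X.carrier) M.val.presheaf U (genericPoint X) hη).hom m = 0) :
    (TopCat.Presheaf.germ (C := Ab.{u}) (X := X.carrier) M.val.presheaf U x hx).hom m = 0 := by
  haveI : (resMod φ M).IsQuasicoherent := hc.1
  refine Ref1.toη_injective (resMod φ M) x (ht x) (Eq.trans ?_ (map_zero (Ref1.toη (resMod φ M) x)).symm)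
  exact (Ref1.sp_germ (resMod φ M) (Ref1.hsp x) hx m).trans (h _)

theorem app_eq_zero_of_generic {M : SheafOfModules.{u} A} (hc : Coh.IsCoh (resMod φ M))
    (ht : TorSh.IsTorsionFree (resMod φ M)) {U : X.Opens} (m : M.val.obj (op U))
    (h : ∀ hη : genericPoint X ∈ U,
      (TopCat.Presheaf.germ (C := Ab.{u}) (X := X.carrier) M.val.presheaf U (genericPoint X) hη).hom m = 0) :
    m = 0 :=
  TopCat.Presheaf.section_ext (⟨M.val.presheaf, M.isSheaf⟩ : TopCat.Sheaf Ab.{u} X.carrier) U m 0 fun x hx =>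
    (germ_eq_zero_of_generic φ hc ht hx m h).trans (map_zero _).symm

theorem hom_ext_generic {M N : SheafOfModules.{u} A} (hc : Coh.IsCoh (resMod φ N))
    (ht : TorSh.IsTorsionFree (resMod φ N)) {ψ χ : M ⟶ N}
    (h : stA ψ (genericPoint X) = stA χ (genericPoint X)) : ψ = χ := by
  refine SheafOfModules.hom_ext ?_
  ext U m
  refine sub_eq_zero.1 (app_eq_zero_of_generic φ hc ht _ fun hη => ?_)
  refine (map_sub _ _ _).trans (sub_eq_zero.2 ?_)
  exact (stA_germ ψ U.unop _ hη m).symm.trans ((LinearMap.congr_fun h _).trans (stA_germ χ U.unop _ hη m))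

theorem mono_of_generic {M N : SheafOfModules.{u} A} (hc : Coh.IsCoh (resMod φ M))
    (ht : TorSh.IsTorsionFree (resMod φ M)) (ψ : M ⟶ N)
    (h : Function.Injective (stA ψ (genericPoint X))) : Mono ψ := by
  refine (SheafOfModules.forget A).mono_of_mono_map (PresheafOfModules.mono_of_injective fun U => ?_)
  refine (injective_iff_map_eq_zero _).2 fun m hm => app_eq_zero_of_generic φ hc ht m fun hη => h ?_
  rw [map_zero]
  refine (stA_germ ψ U.unop _ hη m).trans ?_
  exact (congrArg _ hm).trans (map_zero _)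

theorem mono_of_ne_zero {M N : SheafOfModules.{u} A}
    (hMc : Coh.IsCoh (resMod φ M)) (hMt : TorSh.IsTorsionFree (resMod φ M))
    (hNc : Coh.IsCoh (resMod φ N)) (hNt : TorSh.IsTorsionFree (resMod φ N))
    (hMη : IsSimpleModule (RS (X := X.carrier) A (genericPoint X)) (MS M (genericPoint X)))
    (ψ : M ⟶ N) (hψ : ψ ≠ 0) : Mono ψ := by
  haveI := hMη
  rcases LinearMap.injective_or_eq_zero (stA ψ (genericPoint X)) with h | h
  · exact mono_of_generic φ hMc hMt ψ h
  · exact absurd (hom_ext_generic φ hNc hNt (h.trans (stA_zero _).symm)) hψ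

/-! ### endomorphisms -/

variable {φ}
variable (hcen : ∀ (U : (Opens X)ᵒᵖ) (s : X.ringCatSheaf.obj.obj U) (a : A.obj.obj U),
      φ.hom.app U s * a = a * φ.hom.app U s)

/-- restriction of a global function -/
noncomputable def gres (g : Γ(X, ⊤)) (U : (Opens X)ᵒᵖ) : A.obj.obj U :=
  φ.hom.app U ((X.presheaf.map (homOfLE (le_top (a := U.unop))).op) g)

omit [IsIntegral X] in
theorem gres_map (g : Γ(X, ⊤)) {U V : (Opens X)ᵒᵖ} (i : U ⟶ V) :
    A.obj.map i (gres (φ := φ) g U) = gres (φ := φ) g V := by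
  refine (ConcreteCategory.congr_hom (φ.hom.naturality i) _).symm.trans ?_
  refine congrArg (φ.hom.app V).hom ?_
  refine (ConcreteCategory.congr_hom (X.presheaf.map_comp (homOfLE (le_top (a := U.unop))).op i) g).symm.trans ?_
  rfl

/-- multiplication by a global function -/
noncomputable def scal (g : Γ(X, ⊤)) (M : SheafOfModules.{u} A) : M ⟶ M :=
  ⟨PresheafOfModules.homMk
    { app := fun U => AddCommGrpCat.ofHom (AddMonoidHom.mk' (fun (m : M.val.obj U) => gres (φ := φ) g U • m)
        (fun a b => smul_add _ a b))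
      naturality := fun {U V} i => by
        ext m
        exact ((M.val.map_smul i (gres (φ := φ) g U) m).trans
          (congrArg (fun a : A.obj.obj V => a • (M.val.map i m : M.val.obj V)) (gres_map g i))).symm }
    (fun U a m => by
      show gres (φ := φ) g U • (a • (m : M.val.obj U)) = a • (gres (φ := φ) g U • (m : M.val.obj U))
      rw [← mul_smul, ← mul_smul]
      exact congrArg (· • (m : M.val.obj U)) (hcen U _ a))⟩

theorem stA_scal (g : Γ(X, ⊤)) (M : SheafOfModules.{u} A) (x : X) (s : MS M x) :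
    stA (scal hcen g M) x s = rho φ x (X.presheaf.germ ⊤ x trivial g) • s := by
  obtain ⟨U, hxU, a, rfl⟩ := TopCat.Presheaf.exists_germ_eq (C := Ab.{u}) M.val.presheaf s
  refine (stA_germ (scal hcen g M) U x hxU a).trans ?_
  rw [← X.presheaf.germ_res_apply (homOfLE (le_top (a := U))) x hxU g, rho_germ]
  exact PresheafOfModules.germ_ringCat_smul M.val x U hxU _ a

include hcen in
theorem exists_global_eigen [IsLocallyNoetherian X] (hreg : ∀ x : X, IsRegularLocalRing (X.presheaf.stalk x))
    (k : Type u) [Field k] [IsAlgClosed k] [X.Over (Spec (CommRingCat.of k))]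
    [IsProper (X ↘ Spec (CommRingCat.of k))]
    {F : X.Modules} (hF : Coh.IsCoh F) (hnt : Nontrivial (F.presheaf.stalk (genericPoint X))) (f : F ⟶ F) :
    ∃ (c : k) (v : F.presheaf.stalk (genericPoint X)), v ≠ 0 ∧
      RefHull.stalkMapₗ f (genericPoint X) v =
        X.presheaf.germ ⊤ (genericPoint X) trivial (Coh.toGlobal (X ↘ Spec (CommRingCat.of k)) c) • v := by
  classical
  haveI : F.IsQuasicoherent := hF.1
  let η := genericPoint X
  letI : Module X.functionField (F.presheaf.stalk η) := inferInstanceAs (Module (X.presheaf.stalk η) (F.presheaf.stalk η))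
  haveI : Module.Finite X.functionField (F.presheaf.stalk η) :=
    Groth.Agent.FDesc.QuasiFlat.finite_stalk_of_isCoh F hF η
  let T : Module.End X.functionField (F.presheaf.stalk η) := RefHull.stalkMapₗ f η
  have hann : ∀ x : X, ∃ Q : (X.presheaf.stalk x)[X], Q.Monic ∧
      aeval T (Q.map (algebraMap (X.presheaf.stalk x) X.functionField)) = 0 := by
    intro x
    haveI := Groth.Agent.FDesc.QuasiFlat.finite_stalk_of_isCoh F hF x
    obtain ⟨Q, hQ, hQ0⟩ := LinearMap.exists_monic_and_aeval_eq_zero (X.presheaf.stalk x)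
      (RefHull.stalkMapₗ f x : Module.End (X.presheaf.stalk x) (F.presheaf.stalk x))
    refine ⟨Q, hQ, LinearMap.ext fun w => ?_⟩
    have key : ∀ (P : (X.presheaf.stalk x)[X]) (v : F.presheaf.stalk x),
        Ref1.toη F x (aeval (RefHull.stalkMapₗ f x : Module.End (X.presheaf.stalk x) (F.presheaf.stalk x)) P v) =
          aeval T (P.map (algebraMap (X.presheaf.stalk x) X.functionField)) (Ref1.toη F x v) := by
      intro P
      induction P using Polynomial.induction_on with
      | C a =>
        intro v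
        simp only [aeval_C, Module.algebraMap_end_apply, Polynomial.map_C]
        exact Ref1.sp_smul F (Ref1.hsp x) a v
      | add p q hp hq =>
        intro v
        simp only [map_add, LinearMap.add_apply, Polynomial.map_add, hp v, hq v]
      | monomial n a h =>
        intro v
        rw [show C a * Polynomial.X ^ (n + 1) = C a * Polynomial.X ^ n * Polynomial.X from by rw [pow_succ, mul_assoc],
          map_mul (aeval _) (C a * Polynomial.X ^ n) Polynomial.X, aeval_X,
          Polynomial.map_mul (p := C a * Polynomial.X ^ n), map_mul (aeval T), Polynomial.map_X, aeval_X, Module.End.mul_apply,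
          Module.End.mul_apply, h]
        exact congrArg _ (Ref1.sp_stalkMap f (Ref1.hsp x) v)
    obtain ⟨a, v, ha, hv⟩ := Ref1.exists_smul_eq_toη F x w
    have h1 := key Q v
    rw [hQ0, LinearMap.zero_apply, map_zero, hv] at h1
    have h2 : (algebraMap (X.presheaf.stalk x) X.functionField a) •
        aeval T (Q.map (algebraMap (X.presheaf.stalk x) X.functionField)) w = 0 := by
      rw [← map_smul]; exact h1.symm
    exact (smul_eq_zero.1 h2).resolve_left (Ref1.toK_ne_zero ha)
  let μ := minpoly X.functionField T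
  have hμ : μ.Monic := minpoly.monic (Algebra.IsIntegral.isIntegral T)
  have hcoef : ∀ i, ∃ g : Γ(X, ⊤), ∀ x : X, Ref1.toK x (X.presheaf.germ ⊤ x trivial g) = μ.coeff i := fun i =>
    Groth.Agent.Div61.exists_global_of_mem_range (μ.coeff i) fun x => by
      haveI := hreg x
      haveI : IsIntegrallyClosed (X.presheaf.stalk x) := Groth.Agent.S9829.result _
      obtain ⟨Q, hQ, hQ0⟩ := hann x
      obtain ⟨q, hq⟩ := IsIntegrallyClosed.eq_map_mul_C_of_dvd X.functionField hQ (minpoly.dvd _ T hQ0)
      rw [hμ.leadingCoeff, map_one, mul_one] at hq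
      refine ⟨q.coeff i, ?_⟩
      show Ref1.toK x (q.coeff i) = (minpoly X.functionField T).coeff i
      rw [show minpoly X.functionField T = _ from hq.symm, Polynomial.coeff_map]
      rfl
  choose g hg using hcoef
  obtain ⟨hinj, hsurj⟩ := Groth.Agent.VBLib.bijective_toGlobal_of_isAlgClosed (k := k) (X := X)
  let ι : k →+* X.functionField :=
    (X.presheaf.germ ⊤ η trivial).hom.comp (Coh.toGlobal (X ↘ Spec (CommRingCat.of k)))
  have hlift : μ ∈ Polynomial.lifts ι := by
    rw [Polynomial.lifts_iff_coeff_lifts]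
    intro i
    obtain ⟨c, hc⟩ := hsurj (g i)
    refine ⟨c, ?_⟩
    show X.presheaf.germ ⊤ η trivial (Coh.toGlobal (X ↘ Spec (CommRingCat.of k)) c) = _
    rw [hc, ← hg i η]
    exact (Ref1.spR_germ (Ref1.hsp η) (U := ⊤) trivial (g i)).symm
  obtain ⟨p, hp, hpdeg, hpm⟩ := Polynomial.lifts_and_natDegree_eq_and_monic hlift hμ
  haveI := hnt
  have hdeg : 0 < p.natDegree := hpdeg ▸ minpoly.natDegree_pos (Algebra.IsIntegral.isIntegral T)
  obtain ⟨c, hc⟩ := IsAlgClosed.exists_root p (fun h => by
    have h' := Polynomial.natDegree_eq_of_degree_eq_some (n := 0) h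
    omega)
  have hroot : (minpoly X.functionField T).IsRoot (ι c) := by
    show μ.IsRoot (ι c)
    rw [← hp]
    exact Polynomial.IsRoot.map hc
  obtain ⟨v, hv⟩ := (Module.End.hasEigenvalue_of_isRoot hroot).exists_hasEigenvector
  exact ⟨c, v, hv.2, hv.apply_eq_smul⟩

include hcen in
theorem exists_eq_smul [IsLocallyNoetherian X] (hreg : ∀ x : X, IsRegularLocalRing (X.presheaf.stalk x))
    (k : Type u) [Field k] [IsAlgClosed k] [X.Over (Spec (CommRingCat.of k))]
    [IsProper (X ↘ Spec (CommRingCat.of k))] {M : SheafOfModules.{u} A}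
    (hMc : Coh.IsCoh (resMod φ M)) (hMt : TorSh.IsTorsionFree (resMod φ M))
    (hMη : IsSimpleModule (RS (X := X.carrier) A (genericPoint X)) (MS M (genericPoint X))) (ψ : M ⟶ M) :
    ∃ c : k, ∀ (U : (Opens X)ᵒᵖ) (m : M.val.obj U),
      (ψ.val.app U).hom m = gres (φ := φ) (Coh.toGlobal (X ↘ Spec (CommRingCat.of k)) c) U • m := by
  haveI := hMη
  have hnt : Nontrivial ((resMod φ M).presheaf.stalk (genericPoint X)) :=
    IsSimpleModule.nontrivial (RS (X := X.carrier) A (genericPoint X)) (MS M (genericPoint X))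
  obtain ⟨c, v, hv0, hv⟩ := exists_global_eigen hcen hreg k hMc hnt ((SheafOfModules.restrictScalars φ).map ψ)
  refine ⟨c, ?_⟩
  let S := scal hcen (Coh.toGlobal (X ↘ Spec (CommRingCat.of k)) c) M
  have h0 : stA ψ (genericPoint X) - stA S (genericPoint X) = 0 := by
    refine (LinearMap.injective_or_eq_zero _).resolve_left fun hinj => hv0 (hinj (a₁ := (v : MS M (genericPoint X))) (a₂ := 0) ?_)
    refine (sub_eq_zero.2 ?_).trans (map_zero (stA ψ (genericPoint X) - stA S (genericPoint X))).symm
    refine Eq.trans ?_ (stA_scal hcen _ M _ _).symm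
    exact hv.trans (smul_stalk_eq φ M _ _ v)
  have h1 : ψ = S := hom_ext_generic φ hMc hMt (sub_eq_zero.1 h0)
  intro U m
  rw [h1]
  rfl

end Groth.Agent.OrdSurfLib
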